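import Cfsg.Agent.Lib.ZF.F

/-!
# Failure of `ZJ`-control of fusion, VII: the global induction
-/

set_option autoImplicit false

namespace Cfsg.Agent.ZF

open Subgroup Cfsg.Lib Cfsg.Lib.Transfer Cfsg.Lib.PLocal
open scoped commutatorElement

universe u

variable {p : ℕ} [hp : Fact p.Prime] {ω : (ZMod p)ˣ}

section
variable {G : Type*} [Group G] [Finite G]

theorem thr (S : Sylow p G) {H T : Subgroup G} [T.Normal] (hT : T ≤ S) {s : ℕ}
    (hs : Nat.card T ≤ s)
    (h : ∀ Q, T < Q → Q ≤ S →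
      ¬ p ∣ ((S : Subgroup G) ⊓ normalizer (Q : Set G)).relIndex (normalizer (Q : Set G)) →
      s < Nat.card ↥((S : Subgroup G) ⊓ normalizer (Q : Set G)) →
      Controls H (S ⊓ normalizer (Q : Set G)) (normalizer (Q : Set G)))
    {A : Subgroup G} (hA : A ≤ S) {g : G} (hg : g ⋆ A ≤ S) (hc : s < Nat.card A) :
    ∃ n ∈ H, ∀ a ∈ A, n * a * n⁻¹ = g * a * g⁻¹ := by
  refine alperin_induction S (fun A g => s < Nat.card A → ∃ n ∈ H, ∀ a ∈ A,
    n * a * n⁻¹ = g * a * g⁻¹) (fun A K g h _ _ h' h1 => (h' (h1.trans_le (card_le_of_le h))).imp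
      fun n hn => ⟨hn.1, fun a ha => hn.2 a (h ha)⟩) ?_ ?_ A g hA hg hc
  · intro A g k _ _ _ h1 h2 h3
    obtain ⟨n, hn, h1⟩ := h1 h3
    obtain ⟨m, hm, h2⟩ := h2 (by rwa [card_conj])
    refine ⟨m * n, mul_mem hm hn, fun a ha => ?_⟩
    have := h2 _ (conj_mem_conj.mpr ha)
    rw [← h1 a ha] at this
    calc _ = m * (n * a * n⁻¹) * m⁻¹ := by group
      _ = k * (g * a * g⁻¹) * k⁻¹ := by rw [this, h1 a ha]
      _ = _ := by group
  intro Q x hQ hfn hx _ IH h1
  by_cases hk : T ≤ Q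
  swap
  · have h2 := card_lt_of_lt (left_lt_sup.mpr hk)
    obtain ⟨n, hn, h⟩ := IH (Q ⊔ T) x h2 (sup_le hQ hT) (by
      rw [conj_sup, conj_eq_self_iff.mpr hx, conj_eq_self_of_normal]
      exact sup_le hQ hT) (h1.trans h2)
    exact ⟨n, hn, fun a ha => h a (mem_sup_left ha)⟩
  have h2 : Q ≤ (S : Subgroup G) ⊓ normalizer (Q : Set G) := le_inf hQ le_normalizer
  exact h Q (lt_of_le_of_ne hk fun e => (hs.trans_lt h1).ne (e ▸ rfl)) hQ hfn
    (h1.trans_le (card_le_of_le h2)) Q h2 x hx ((conj_eq_self_iff.mpr hx).le.trans h2)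

theorem thr' (S : Sylow p G) {H T : Subgroup G} [T.Normal] (hT : T ≤ S) {s : ℕ}
    (hs : Nat.card T ≤ s)
    (h : ∀ Q, T < Q → Q ≤ S →
      ¬ p ∣ ((S : Subgroup G) ⊓ normalizer (Q : Set G)).relIndex (normalizer (Q : Set G)) →
      s < Nat.card ↥((S : Subgroup G) ⊓ normalizer (Q : Set G)) →
      Controls H (S ⊓ normalizer (Q : Set G)) (normalizer (Q : Set G)))
    {K : Subgroup G} (h1 : T < K) (h2 : K ≤ S)
    (h3 : s < Nat.card ↥((S : Subgroup G) ⊓ normalizer (K : Set G))) :
    Controls H (S ⊓ normalizer (K : Set G)) (normalizer (K : Set G)) := by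
  intro A hA x hx hxA
  obtain ⟨g, hg1, hg2⟩ := exists_conj_fully_normalized S (Q := K)
    (S.isPGroup'.to_le (inf_le_left (b := normalizer (K : Set G)))) inf_le_right
  obtain ⟨n₀, hn₀, h₀⟩ := thr S hT hs h inf_le_left hg1 h3
  have hle : g ⋆ ((S : Subgroup G) ⊓ normalizer (K : Set G)) ≤
      (S : Subgroup G) ⊓ normalizer ((g ⋆ K : Subgroup G) : Set G) :=
    le_inf hg1 ((conj_mono g inf_le_right).trans (conj_normalizer g K).le)
  obtain ⟨n, hn, e⟩ := h (g ⋆ K) (conj_eq_self_of_normal g T ▸ conj_lt_conj_iff.mpr h1)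
    ((conj_mono g (le_inf h2 le_normalizer)).trans hg1) hg2
    (h3.trans_le (card_conj g _ ▸ card_le_of_le hle)) (g ⋆ A) ((conj_mono g hA).trans hle)
    (g * x * g⁻¹) (conj_normalizer g K ▸ conj_mem_conj.mpr hx) (by
      rw [conj_conj, inv_mul_cancel_right, ← conj_conj]
      exact (conj_mono g hxA).trans hle)
  refine ⟨n₀⁻¹ * n * n₀, mul_mem (mul_mem (inv_mem hn₀) hn) hn₀, fun a ha => ?_⟩
  have e1 := e _ (conj_mem_conj.mpr ha)
  have e2 := h₀ _ (conj_le_iff.mp hxA a ha)
  rw [← h₀ a (hA ha)] at e1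
  calc _ = n₀⁻¹ * (n * (n₀ * a * n₀⁻¹) * n⁻¹) * n₀ := by group
    _ = n₀⁻¹ * (n₀ * (x * a * x⁻¹) * n₀⁻¹) * n₀ := by rw [e1, e2, h₀ a (hA ha)]; group
    _ = _ := by group

end

/-- A constrained section with the same Sylow subgroup in which `Z` is not normal. -/
def Alt (p : ℕ) {G : Type u} [Group G] (S Z : Subgroup G) : Prop :=
  ∃ (L X : Type u) (_ : Group L) (_ : Finite L) (_ : Group X) (_ : Finite X) (i : L →* G)
    (f : L →* X) (P : Sylow p L), Function.Injective i ∧ Function.Surjective f ∧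
    (P : Subgroup L).map i = S ∧ (Nat.card f.ker).Coprime p ∧
    centralizer (pCore p X : Set X) ≤ pCore p X ∧ ¬ ((Z.comap i).map f).Normal

theorem main (hp2 : p ≠ 2) {n : ℕ} (hω : ω ^ n = -1) (G : Type u) [Group G] [Finite G] :
    ∀ (S : Sylow p G) (Z : Subgroup G), Z ≤ S → IsMulCommutative Z →
      (S : Subgroup G) ≤ normalizer (Z : Set G) → ¬ Controls (normalizer (Z : Set G)) S ⊤ →
      Good ω (S : Subgroup G) Z ∨ Alt p (S : Subgroup G) Z := by
  refine Core.induction_on_card (P := fun G _ _ => ∀ (S : Sylow p G) (Z : Subgroup G), Z ≤ S →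
    IsMulCommutative Z → (S : Subgroup G) ≤ normalizer (Z : Set G) →
    ¬ Controls (normalizer (Z : Set G)) S ⊤ →
    Good ω (S : Subgroup G) Z ∨ Alt p (S : Subgroup G) Z) G ?_
  intro G _ _ IH S Z hZS hZ hSZ hnc
  have sub : ∀ H S₁ Z₁ : Subgroup G, H ≠ ⊤ → S₁ ≤ H → IsPGroup p S₁ → ¬ p ∣ S₁.relIndex H →
      Z₁ ≤ S₁ → IsMulCommutative Z₁ → S₁ ≤ normalizer (Z₁ : Set G) →
      ¬ Controls (H ⊓ normalizer (Z₁ : Set G)) S₁ H → Good ω S₁ Z₁ ∨ Alt p S₁ Z₁ := by
    intro H S₁ Z₁ h1 h2 h3 h4 h5 h6 h7 h8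
    obtain ⟨P, hP⟩ := exists_sylow_of_not_dvd_relIndex h3 h4
    have e : (P : Subgroup H).map H.subtype = S₁ := by
      rw [hP, subgroupOf_map_subtype, inf_eq_left.mpr h2]
    rcases IH H (Core.card_lt_of_ne_top h1) P (Z₁.subgroupOf H) (hP ▸ comap_mono h5) inferInstance
      (by rw [hP, ← subgroupOf_normalizer_eq (h5.trans h2)]; exact comap_mono h7)
      (fun h => h8 (by
        rw [hP, ← subgroupOf_normalizer_eq (h5.trans h2)] at h
        exact h.of_subgroupOf h2)) with h | ⟨L, X, _, _, _, _, i, f, Q, a1, a2, a3, a4⟩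
    · have := h.map H.subtype_injective
      rw [e, subgroupOf_map_subtype, inf_eq_left.mpr (h5.trans h2)] at this
      exact Or.inl this
    · exact Or.inr ⟨L, X, _, inferInstance, _, inferInstance, H.subtype.comp i, f, Q,
        H.subtype_injective.comp a1, a2, by rw [← Subgroup.map_map, a3, e], a4⟩
  have ovr : ∀ H : Subgroup G, H ≠ ⊤ → (S : Subgroup G) ≤ H →
      ¬ Controls (normalizer (Z : Set G)) S H →
      Good ω (S : Subgroup G) Z ∨ Alt p (S : Subgroup G) Z := fun H h1 h2 h3 =>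
    sub H S Z h1 h2 S.isPGroup' (sylow_not_dvd_relIndex S h2) hZS hZ hSZ
      fun h => h3 (h.mono inf_le_right le_rfl)
  let T := (S : Subgroup G) ⊓ centralizer (pResidual p G : Set G)
  have hTc : ∀ g : G, (orderOf g).Coprime p → g ∈ centralizer (T : Set G) :=
    pResidual_le_iff.mp (le_centralizer_iff.mp inf_le_right)
  have top : ∀ E : Subgroup G, (S : Subgroup G) ≤ E → (∀ g : G, (orderOf g).Coprime p → g ∈ E) →
      ⊤ ≤ E := fun E h1 h2 => by
    rw [← map_pResidual_sup_eq le_top (sylow_not_dvd_relIndex S le_top)]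
    exact sup_le (map_subtype_pResidual_le_iff.mpr fun g _ => h2 g) h1
  have : T.Normal := Core.normal_of_top_le_normalizer (top _
    (Core.le_normalizer_inf le_normalizer le_normalizer_of_normal)
    fun g hg => centralizer_le_normalizer _ (hTc g hg))
  have hZT : ¬ Z ≤ T := fun h => hnc (controls_of_le (top _ hSZ fun g hg =>
    centralizer_le_normalizer _ (centralizer_le h (hTc g hg))))
  obtain ⟨Q, ⟨q1, q2, q3, q4⟩, qm⟩ := Set.exists_max_image {Q : Subgroup G | T < Q ∧ Q ≤ S ∧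
    ¬ p ∣ ((S : Subgroup G) ⊓ normalizer (Q : Set G)).relIndex (normalizer (Q : Set G)) ∧
    ¬ Controls (normalizer (Z : Set G)) (S ⊓ normalizer (Q : Set G)) (normalizer (Q : Set G))}
    (fun Q => Nat.card ↥((S : Subgroup G) ⊓ normalizer (Q : Set G))) (Set.toFinite _) (by
      by_contra h
      refine hnc fun A hA g _ hg => ?_
      by_cases h1 : A ≤ T
      · obtain ⟨s, hs, o, ho, rfl⟩ := exists_mul_pResidual le_top (sylow_not_dvd_relIndex S le_top)
          (mem_top g)
        refine ⟨s, hSZ hs, fun a ha => ?_⟩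
        have := map_subtype_pResidual_le_iff.mpr (fun g _ => hTc g) ho a (h1 ha)
        rw [mul_assoc s o, ← this]; group
      · obtain ⟨m, hm, e⟩ := thr S (H := normalizer (Z : Set G)) (T := T) inf_le_left le_rfl
          (fun Q a b c _ => by
            by_contra d
            exact h ⟨Q, a, b, c, d⟩) (A := A ⊔ T) (sup_le hA inf_le_left) (g := g) (by
          rw [conj_sup, conj_eq_self_of_normal g T]
          exact sup_le hg inf_le_left) (card_lt_of_lt (right_lt_sup.mpr h1))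
        exact ⟨m, hm, fun a ha => e a (mem_sup_left ha)⟩)
  by_cases hQ : normalizer (Q : Set G) = ⊤
  · have hQn := normalizer_eq_top_iff.mp hQ
    have hQR : Q ≤ pCore p G := Core.le_pCore hQn (S.isPGroup'.to_le q2)
    by_cases hc : (S : Subgroup G) ⊓ centralizer (pCore p G : Set G) ≤ pCore p G
    · refine Or.inr ⟨G, G ⧸ pPrimeCore p G, _, inferInstance, _, inferInstance, MonoidHom.id G,
        QuotientGroup.mk' _, S, Function.injective_id, QuotientGroup.mk'_surjective _, map_id _,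
        by rw [QuotientGroup.ker_mk']; exact Core.pPrimeCore_coprime p G, ?_, fun h => hnc
          (controls_of_sup_eq_top (Core.pPrimeCore_coprime p G) S.isPGroup' hSZ
            (pPrimeCore_sup_normalizer_eq_top (S.isPGroup'.to_le hZS) h))⟩
      have hs := QuotientGroup.mk'_surjective (pPrimeCore p G)
      have h1 : (S : Subgroup G) ⊓ (QuotientGroup.mk' (pPrimeCore p G)).ker = ⊥ := by
        rw [QuotientGroup.ker_mk']; exact Core.inf_pPrimeCore_eq_bot S.isPGroup'
      refine centralizer_le_of_inf_centralizer_le (S.mapSurjective hs)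
        (Core.pPrimeCore_quotient_pPrimeCore p G) ((inf_le_inf_left _ (centralizer_le
          (Core.map_pCore_le hs))).trans ((Coprime.map_inf_centralizer_map _
            ((Core.pCore_le_sylow S).trans le_normalizer) (by rw [h1]; simp)
            (Or.inr (by rw [h1]; infer_instance))).le.trans
            ((map_mono hc).trans (Core.map_pCore_le hs))))
    · let C := pCore p G ⊔ centralizer (pCore p G : Set G)
      by_cases h1 : Controls (normalizer (Z : Set G)) S (C ⊔ S)
      · refine ovr _ (fun h => hc ((inf_le_inf_left _ le_sup_right).trans (Core.le_pCore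
          (normalizer_eq_top_iff.mp h) (S.isPGroup'.to_le inf_le_left))))
          (Core.le_normalizer_inf le_normalizer le_normalizer_of_normal)
          fun h => hnc (controls_of_normal S C (h1.mono le_rfl le_sup_left) h)
      · refine ovr _ (fun h => q1.not_ge (le_inf q2 (hQR.trans (le_centralizer_iff.mp
          (pResidual_le_iff.mpr fun g hg => mem_centralizer_of_coprime_of_mem_sup
            (Core.pCore_le_sylow S) S.isPGroup' (h.ge (mem_top g)) hg))))) le_sup_right h1
  by_cases hS : (S : Subgroup G) ≤ normalizer (Q : Set G)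
  · exact ovr _ hQ hS (by rwa [inf_eq_left.mpr hS] at q4)
  left
  set S₁ := (S : Subgroup G) ⊓ normalizer (Q : Set G) with hS₁
  have hTS : T ≤ S₁ := q1.le.trans (le_inf q2 le_normalizer)
  have big : ∀ K, T < K → K ≤ S₁ →
      (S : Subgroup G) ⊓ normalizer (S₁ : Set G) ≤ normalizer (K : Set G) →
      Controls (normalizer (Z : Set G)) ((S : Subgroup G) ⊓ normalizer (K : Set G))
        (normalizer (K : Set G)) :=
    fun K k1 k2 k3 => thr' S inf_le_left (card_le_of_le hTS) (fun R a b c d => by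
      by_contra e
      exact (qm R ⟨a, b, c, e⟩).not_gt d) k1 (k2.trans inf_le_left) ((card_lt_of_lt
        (lt_inf_normalizer_of_lt S.isPGroup' (inf_lt_left.mpr hS))).trans_le
        (card_le_of_le (le_inf inf_le_left k3)))
  have hZ₁ : ¬ Z ⊓ S₁ ≤ T := fun h => by
    obtain ⟨_, ⟨⟨z, hz, rfl⟩, h1⟩, h2⟩ := (bot_or_exists_ne_one _).resolve_left
      (PGroup.inf_centralizer_ne_bot ((S.isPGroup'.to_le hZS).map (QuotientGroup.mk' T))
        (S.isPGroup'.map (QuotientGroup.mk' T)) ((map_mono hSZ).trans (le_normalizer_map _))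
        fun h => hZT ((Core.map_mk'_eq_bot_iff _ _).mp h))
    refine h2 ((QuotientGroup.eq_one_iff z).mpr (h ⟨hz, hZS hz, mem_normalizer_of_conj_le
      (conj_le_iff.mpr fun y hy => ?_)⟩))
    have h3 : ⁅z, y⁆ ∈ T := (QuotientGroup.eq_one_iff _).mp ((map_commutatorElement
      (QuotientGroup.mk' T) _ _).trans (commutatorElement_eq_one_iff_mul_comm.mpr
        (h1 _ (mem_map_of_mem _ (q2 hy))).symm))
    simpa [commutatorElement_def] using mul_mem (q1.le h3) hy
  have n1 : (S : Subgroup G) ⊓ normalizer (S₁ : Set G) ≤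
      normalizer ((Z ⊓ S₁ : Subgroup G) : Set G) :=
    Core.le_normalizer_inf (inf_le_left.trans hSZ) inf_le_right
  have n2 : normalizer ((Z ⊓ S₁ : Subgroup G) : Set G) ≤
      normalizer ((Z ⊓ S₁ ⊔ T : Subgroup G) : Set G) :=
    Core.le_normalizer_sup le_rfl le_normalizer_of_normal
  have n3 : S₁ ≤ (S : Subgroup G) ⊓ normalizer (S₁ : Set G) := le_inf inf_le_left le_normalizer
  have b1 := big _ (right_lt_sup.mpr hZ₁) (sup_le inf_le_right hTS) (n1.trans n2)
  rcases sub _ S₁ (Z ⊓ S₁) hQ inf_le_right (S.isPGroup'.to_le inf_le_left) q3 inf_le_right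
    (PGroup.isMulCommutative_of_le inf_le_left hZ) (n3.trans n1) (fun h => q4 (h.trans
      fun A hA g hg h' => b1 A (hA.trans (le_inf inf_le_left (n3.trans (n1.trans n2)))) g
        (n2 hg.2) (h'.trans (le_inf inf_le_left (n3.trans (n1.trans n2)))))) with
    ⟨B, D, t, a, b, r, hB, hD, ht, he⟩ | ⟨L, X, _, _, _, _, i, f, P, a1, a2, a3, a4, a5, a6⟩
  · exact good_up inf_le_left le_sup_left (sup_le inf_le_right hTS) (n3.trans (n1.trans n2)) b1 r
      hB hD (n2 ht) fun _ => he
  · exact push hp2 hω hZ hSZ hTc a1 a2 a4 a5 P (a3 ▸ inf_le_left) (a3 ▸ hTS) (a3 ▸ hZ₁)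
      (a3 ▸ big) (a3 ▸ a6)

theorem good_of_not_controls (hp2 : p ≠ 2) {n : ℕ} (hω : ω ^ n = -1) {G : Type u} [Group G]
    [Finite G] (S : Sylow p G)
    (h : ¬ Controls (normalizer (centerThompsonOf 0 (S : Subgroup G) : Set G)) S ⊤) :
    Good ω (S : Subgroup G) (centerThompsonOf 0 (S : Subgroup G)) := by
  rcases main hp2 hω G S _ (centerThompsonOf_le _) (isMulCommutative_centerThompsonOf _)
    (le_normalizer.trans (normalizer_le_normalizer_centerThompsonOf _)) h with
    h | ⟨L, X, _, _, _, _, i, f, P, a1, a2, a3, a4, a5, a6⟩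
  · exact h
  have h1 : (P : Subgroup L) ⊓ f.ker = ⊥ := Core.inf_eq_bot_of_isPGroup_of_coprime P.isPGroup' a4
  rw [← a3, ← map_centerThompsonOf a1] at a6 ⊢
  rw [comap_map_eq_self_of_injective a1, map_centerThompsonOf_of_inf_ker h1] at a6
  have h2 := good_zj hp2 hω a5 (P.mapSurjective a2) a6
  rw [Sylow.coe_mapSurjective, ← map_centerThompsonOf_of_inf_ker h1] at h2
  obtain ⟨B, D, t, a, b, r, hB, hD, ht, he⟩ := good_pull a2 P (centerThompsonOf_le _)
    (isMulCommutative_centerThompsonOf _) h2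
  rw [comap_map_eq, inf_comm, Core.sup_inf_of_le_normalizer (centerThompsonOf_le _)
    le_normalizer_of_normal, inf_comm, h1, sup_bot_eq] at ht
  exact Good.map ⟨B, D, t, a, b, r, hB, hD, ht, he ht⟩ a1

theorem exists_index {G : Type*} [Group G] [Finite G] (hω : orderOf ω = p - 1) {Z H : Subgroup G}
    (hZ : IsPGroup p Z) {t z : G} (ht : t ∈ H) (hz : z ∈ Z) (z1 : z ≠ 1)
    (z2 : t * z * t⁻¹ = z ^ (ω : ZMod p).val) : ∃ C : Subgroup G, C ≤ Z ∧ Nat.card C = p ∧
      (H ⊓ centralizer (C : Set G)).relIndex (H ⊓ normalizer (C : Set G)) = p - 1 := by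
  obtain ⟨y, y1, y2, y3⟩ : ∃ y ∈ Z, orderOf y = p ∧ t * y * t⁻¹ = y ^ (ω : ZMod p).val := by
    obtain ⟨k, hk⟩ := Core.isPGroup_subgroup_iff.mp hZ z hz
    obtain ⟨j, -, hj⟩ := (Nat.dvd_prime_pow hp.out).mp (orderOf_dvd_of_pow_eq_one hk)
    obtain _ | j := j
    · exact absurd (orderOf_eq_one_iff.mp hj) z1
    refine ⟨z ^ p ^ j, pow_mem hz _, ?_, by rw [← conj_pow, z2, ← pow_mul, ← pow_mul, mul_comm]⟩
    rw [orderOf_pow_of_dvd (pow_ne_zero _ hp.out.ne_zero) (hj ▸ pow_dvd_pow p j.le_succ), hj,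
      pow_succ, Nat.mul_div_cancel_left _ (pow_pos hp.out.pos _)]
  have hc : Nat.card (zpowers y) = p := by rw [Nat.card_zpowers, y2]
  refine ⟨zpowers y, zpowers_le.mpr y1, hc, Nat.dvd_antisymm ?_ ?_⟩
  · let φ := (normalizerMonoidHom (zpowers y)).comp (inclusion
      (inf_le_right : H ⊓ normalizer ((zpowers y : Subgroup G) : Set G) ≤ _))
    have h1 : (H ⊓ centralizer ((zpowers y : Subgroup G) : Set G)).subgroupOf
        (H ⊓ normalizer ((zpowers y : Subgroup G) : Set G)) = φ.ker := by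
      rw [← MonoidHom.comap_ker, normalizerMonoidHom_ker]
      ext x
      exact ⟨fun h => h.2, fun h => ⟨x.2.1, h⟩⟩
    rw [relIndex, h1, index_ker, ← Nat.totient_prime hp.out, ← hc, ← IsCyclic.card_mulAut]
    exact card_subgroup_dvd_card _
  · have h1 : t ∈ normalizer ((zpowers y : Subgroup G) : Set G) := mem_normalizer_of_conj_le (by
      rw [conj_zpowers, y3]; exact zpowers_le.mpr (pow_mem (mem_zpowers y) _))
    have : ((H ⊓ centralizer ((zpowers y : Subgroup G) : Set G)).subgroupOf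
        (H ⊓ normalizer ((zpowers y : Subgroup G) : Set G))).Normal :=
      (normal_subgroupOf_iff_le_normalizer (inf_le_inf_left _ (centralizer_le_normalizer _))).mpr
        (Core.le_normalizer_inf (inf_le_left.trans le_normalizer)
          (Core.le_normalizer_centralizer inf_le_right))
    have h2 := (pow_index_mem (H := (H ⊓ centralizer ((zpowers y : Subgroup G) : Set G)).subgroupOf
      (H ⊓ normalizer ((zpowers y : Subgroup G) : Set G))) ⟨t, ht, h1⟩).2 y (mem_zpowers y)
    rw [relIndex]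
    generalize ((H ⊓ centralizer ((zpowers y : Subgroup G) : Set G)).subgroupOf
      (H ⊓ normalizer ((zpowers y : Subgroup G) : Set G))).index = m at h2 ⊢
    have h3 : ∀ m : ℕ, t ^ m * y * (t ^ m)⁻¹ = y ^ (ω : ZMod p).val ^ m := fun m => by
      induction m with
      | zero => simp
      | succ m ih =>
        rw [pow_succ', pow_succ', pow_mul, ← y3, conj_pow, ← ih]; group
    have h4 : y ^ (ω : ZMod p).val ^ m = y ^ 1 := by
      rw [← h3, pow_one, mul_inv_eq_iff_eq_mul]; exact h2.symm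
    rw [pow_eq_pow_iff_modEq, y2, ← ZMod.natCast_eq_natCast_iff] at h4
    rw [← hω]
    exact orderOf_dvd_of_pow_eq_one (Units.ext (by simpa using h4))

end Cfsg.Agent.ZF
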