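import Cfsg.Prelude.Def_LocalEven
import Cfsg.Agent.Lib.PLocal.Constrained

/-!
# Failure of `ZJ`-control of fusion, I: local data producing a section `F(p)`
-/

set_option autoImplicit false

namespace Cfsg.Agent.ZF

open Subgroup Cfsg.Lib Cfsg.Lib.Transfer Cfsg.Lib.PLocal Matrix
open scoped MatrixGroups

variable {G : Type*} [Group G] {G' : Type*} [Group G'] {p : ℕ}

/-- Coordinates `(f, g)` on a section of `B` on which `D` acts unitriangularly and `t` as a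
diagonal matrix. -/
structure RD (ω : (ZMod p)ˣ) (B D : Subgroup G) (t : G) (f g : G → ZMod p) : Prop where
  pg : IsPGroup p ↥(B ⊔ D)
  fm : ∀ b ∈ B, ∀ c ∈ B, f (b * c) = f b + f c
  gm : ∀ b ∈ B, ∀ c ∈ B, g (b * c) = g b + g c
  sj : ∀ r s, ∃ b ∈ B, f b = r ∧ g b = s
  DB : D ≤ normalizer (B : Set G)
  tB : t ∈ normalizer (B : Set G)
  tD : t ∈ normalizer (D : Set G)
  dact : ∀ d ∈ D, ∃ s, ∀ b ∈ B, f (d * b * d⁻¹) = f b + s * g b ∧ g (d * b * d⁻¹) = g b
  dex : ∃ d ∈ D, ∀ b ∈ B, f (d * b * d⁻¹) = f b + g b ∧ g (d * b * d⁻¹) = g b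
  tact : ∀ b ∈ B, f (t * b * t⁻¹) = ω * f b ∧ g (t * b * t⁻¹) = (ω⁻¹ : (ZMod p)ˣ) * g b
  inf : ∀ b ∈ B, b ∈ D → f b = 0 ∧ g b = 0

/-- The conclusion of the theorem in fusion-theoretic form. -/
def Good (ω : (ZMod p)ˣ) (S Z : Subgroup G) : Prop :=
  ∃ B D t f g, RD ω B D t f g ∧ B ≤ S ∧ D ≤ S ∧ t ∈ normalizer (Z : Set G) ∧
    ∃ z ∈ Z, z ≠ 1 ∧ t * z * t⁻¹ = z ^ (ω : ZMod p).val

theorem conj_mem_of {B : Subgroup G} {e b : G} (he : e ∈ normalizer (B : Set G)) (hb : b ∈ B) :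
    e * b * e⁻¹ ∈ B := (mem_normalizer_iff.mp he b).mp hb

theorem norm_of_agree [Finite G] {B : Subgroup G} {t h : G} (ht : t ∈ normalizer (B : Set G))
    (e : ∀ b ∈ B, h * b * h⁻¹ = t * b * t⁻¹) : h ∈ normalizer (B : Set G) :=
  mem_normalizer_of_conj_le (conj_le_iff.mpr fun b hb => (e b hb).symm ▸ conj_mem_of ht hb)

variable {ω : (ZMod p)ˣ} {B D : Subgroup G} {t : G} {f g : G → ZMod p}

theorem RD.congr [Finite G] (r : RD ω B D t f g) {h : G}
    (e1 : ∀ b ∈ B, h * b * h⁻¹ = t * b * t⁻¹) (e2 : ∀ b ∈ D, h * b * h⁻¹ = t * b * t⁻¹) :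
    RD ω B D h f g :=
  { r with
    tB := norm_of_agree r.tB e1
    tD := norm_of_agree r.tD e2
    tact := fun b hb => e1 b hb ▸ r.tact b hb }

theorem RD.map (r : RD ω B D t f g) {i : G →* G'} (hi : Function.Injective i) :
    RD ω (B.map i) (D.map i) (i t) (f ∘ Function.invFun i) (g ∘ Function.invFun i) := by
  have e : ∀ x, Function.invFun i (i x) = x := Function.leftInverse_invFun hi
  have e3 : ∀ x y : G, i x * i y * (i x)⁻¹ = i (x * y * x⁻¹) := fun x y => by simp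
  refine ⟨?_, ?_, ?_, fun a s => ?_, (map_mono r.DB).trans (le_normalizer_map i),
    le_normalizer_map i (mem_map_of_mem i r.tB), le_normalizer_map i (mem_map_of_mem i r.tD),
    ?_, ?_, ?_, ?_⟩
  · rw [← Subgroup.map_sup]; exact r.pg.map i
  · rintro _ ⟨b, hb, rfl⟩ _ ⟨c, hc, rfl⟩
    simp only [Function.comp, ← map_mul, e]; exact r.fm b hb c hc
  · rintro _ ⟨b, hb, rfl⟩ _ ⟨c, hc, rfl⟩
    simp only [Function.comp, ← map_mul, e]; exact r.gm b hb c hc
  · obtain ⟨b, hb, h⟩ := r.sj a s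
    exact ⟨i b, mem_map_of_mem i hb, by simpa only [Function.comp, e] using h⟩
  · rintro _ ⟨d, hd, rfl⟩
    obtain ⟨s, hs⟩ := r.dact d hd
    refine ⟨s, ?_⟩
    rintro _ ⟨b, hb, rfl⟩
    simp only [Function.comp, e3, e]; exact hs b hb
  · obtain ⟨d, hd, hs⟩ := r.dex
    refine ⟨i d, mem_map_of_mem i hd, ?_⟩
    rintro _ ⟨b, hb, rfl⟩
    simp only [Function.comp, e3, e]; exact hs b hb
  · rintro _ ⟨b, hb, rfl⟩
    simp only [Function.comp, e3, e]; exact r.tact b hb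
  · rintro _ ⟨b, hb, rfl⟩ hd
    simp only [Function.comp, e]
    exact r.inf b hb ((mem_map_iff_mem hi).mp hd)

theorem mem_normalizer_comap {π : G' →* G} {u : G'} {K : Subgroup G}
    (h : π u ∈ normalizer (K : Set G)) : u ∈ normalizer ((K.comap π : Subgroup G') : Set G') := by
  rw [mem_normalizer_iff] at h ⊢
  intro x
  simpa using h (π x)

theorem mem_normalizer_inf {u : G} {K L : Subgroup G} (h : u ∈ normalizer (K : Set G))
    (h' : u ∈ normalizer (L : Set G)) : u ∈ normalizer ((K ⊓ L : Subgroup G) : Set G) :=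
  Core.le_normalizer_inf (zpowers_le.mpr h) (zpowers_le.mpr h') (mem_zpowers u)

theorem mem_normalizer_sup {u : G} {K L : Subgroup G} (h : u ∈ normalizer (K : Set G))
    (h' : u ∈ normalizer (L : Set G)) : u ∈ normalizer ((K ⊔ L : Subgroup G) : Set G) :=
  Core.le_normalizer_sup (zpowers_le.mpr h) (zpowers_le.mpr h') (mem_zpowers u)

theorem RD.comap (r : RD ω B D t f g) {π : G' →* G} {Q : Subgroup G'} (hQ : IsPGroup p Q)
    (hB : B ≤ Q.map π) (hD : D ≤ Q.map π) {u : G'} (hu : π u = t)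
    (huQ : u ∈ normalizer (Q : Set G')) :
    RD ω (Q ⊓ B.comap π) (Q ⊓ D.comap π) u (f ∘ π) (g ∘ π) := by
  have e3 : ∀ x y : G', π (x * y * x⁻¹) = π x * π y * (π x)⁻¹ := fun x y => by simp
  refine ⟨hQ.to_le (sup_le inf_le_left inf_le_left), ?_, ?_, fun a s => ?_,
    fun d hd => mem_normalizer_inf (le_normalizer hd.1) (mem_normalizer_comap (r.DB hd.2)),
    mem_normalizer_inf huQ (mem_normalizer_comap (hu ▸ r.tB)),
    mem_normalizer_inf huQ (mem_normalizer_comap (hu ▸ r.tD)), fun d hd => ?_, ?_,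
    fun b hb => ?_, fun b hb hd => r.inf _ hb.2 hd.2⟩
  · intro b hb c hc
    simp only [Function.comp, map_mul]; exact r.fm _ hb.2 _ hc.2
  · intro b hb c hc
    simp only [Function.comp, map_mul]; exact r.gm _ hb.2 _ hc.2
  · obtain ⟨b, hb, h⟩ := r.sj a s
    obtain ⟨c, hc, rfl⟩ := hB hb
    exact ⟨c, ⟨hc, hb⟩, h⟩
  · obtain ⟨s, hs⟩ := r.dact _ hd.2
    exact ⟨s, fun b hb => by simp only [Function.comp, e3]; exact hs _ hb.2⟩
  · obtain ⟨d, hd, hs⟩ := r.dex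
    obtain ⟨c, hc, rfl⟩ := hD hd
    exact ⟨c, ⟨hc, hd⟩, fun b hb => by simp only [Function.comp, e3]; exact hs _ hb.2⟩
  · simp only [Function.comp, e3, hu]; exact r.tact _ hb.2

/-- `e` acts on the section by the matrix `(α β; 0 α⁻¹)`. -/
def Act (B : Subgroup G) (f g : G → ZMod p) (e : G) (α : (ZMod p)ˣ) (β : ZMod p) : Prop :=
  e ∈ normalizer (B : Set G) ∧ ∀ b ∈ B, f (e * b * e⁻¹) = α * f b + β * g b ∧
    g (e * b * e⁻¹) = (α⁻¹ : (ZMod p)ˣ) * g b

theorem Act.mul {e e' : G} {α α' : (ZMod p)ˣ} {β β' : ZMod p} (h : Act B f g e α β)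
    (h' : Act B f g e' α' β') :
    Act B f g (e * e') (α * α') (α * β' + β * (α'⁻¹ : (ZMod p)ˣ)) := by
  refine ⟨mul_mem h.1 h'.1, fun b hb => ?_⟩
  have e1 : e * e' * b * (e * e')⁻¹ = e * (e' * b * e'⁻¹) * e⁻¹ := by group
  obtain ⟨h1, h2⟩ := h.2 _ (conj_mem_of h'.1 hb)
  obtain ⟨h3, h4⟩ := h'.2 b hb
  rw [e1, h1, h2, h3, h4]
  push_cast [mul_inv]
  constructor <;> ring

theorem act_one : Act B f g 1 1 0 := ⟨one_mem _, fun b _ => by simp⟩

theorem Act.pow_diag {e : G} {α : (ZMod p)ˣ} (h : Act B f g e α 0) (n : ℕ) :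
    Act B f g (e ^ n) (α ^ n) 0 := by
  induction n with
  | zero => simpa using act_one
  | succ n ih => simpa [pow_succ] using ih.mul h

theorem Act.pow_uni {e : G} (h : Act B f g e 1 1) (n : ℕ) : Act B f g (e ^ n) 1 n := by
  induction n with
  | zero => simpa using act_one
  | succ n ih => simpa [pow_succ, add_comm] using ih.mul h

theorem RD.act_t (r : RD ω B D t f g) : Act B f g t ω 0 :=
  ⟨r.tB, fun b hb => by simpa using r.tact b hb⟩

theorem RD.pow (r : RD ω B D t f g) {n : ℕ} (hn : ω ^ n = ω) : RD ω B D (t ^ n) f g :=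
  { r with
    tB := pow_mem r.tB n
    tD := pow_mem r.tD n
    tact := fun b hb => by simpa [hn] using (r.act_t.pow_diag n).2 b hb }

/-- The matrices of `F(p)`. -/
def mat (α : (ZMod p)ˣ) (β r s : ZMod p) : SL(3, ZMod p) :=
  ⟨!![α, β, r; 0, (α⁻¹ : (ZMod p)ˣ), s; 0, 0, 1], by simp [det_fin_three]⟩

theorem mat_mul (α α' : (ZMod p)ˣ) (β β' r r' s s' : ZMod p) :
    mat α β r s * mat α' β' r' s' = mat (α * α') (α * β' + β * (α'⁻¹ : (ZMod p)ˣ))
      (r + (α * r' + β * s')) (s + (α⁻¹ : (ZMod p)ˣ) * s') := by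
  apply Subtype.ext
  change (mat α β r s).1 * (mat α' β' r' s').1 = _
  simp only [mat]
  ext i j
  fin_cases i <;> fin_cases j <;> simp [mul_apply, Fin.sum_univ_three] <;> ring

theorem mat_one : mat (1 : (ZMod p)ˣ) 0 0 0 = 1 := by
  apply Subtype.ext
  simp only [mat]
  ext i j
  fin_cases i <;> fin_cases j <;> simp

theorem exists_pow_coprime [Finite G] [hp : Fact p.Prime] (t : G) :
    ∃ k, (orderOf (t ^ p ^ k)).Coprime p := by
  obtain ⟨k, m, hm, e⟩ := Nat.exists_eq_pow_mul_and_not_dvd (orderOf_pos t).ne' p hp.out.ne_one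
  refine ⟨k, ?_⟩
  rw [orderOf_pow_of_dvd (pow_ne_zero _ hp.out.ne_zero) ⟨m, e⟩, e,
    Nat.mul_div_cancel_left _ (pow_pos hp.out.pos _)]
  exact ((Nat.Prime.coprime_iff_not_dvd hp.out).mpr hm).symm

theorem units_pow_prime_pow [hp : Fact p.Prime] (ω : (ZMod p)ˣ) (k : ℕ) : ω ^ p ^ k = ω :=
  Units.ext (by rw [Units.val_pow_eq_pow_val, ZMod.pow_card_pow])

theorem eq_one_of_coprime [Finite G] {P : Subgroup G} (hP : IsPGroup p P) {t y : G}
    (ht : (orderOf t).Coprime p) (hy : y ∈ zpowers t) (hyP : y ∈ P) : y = 1 := by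
  have := Core.inf_eq_bot_of_isPGroup_of_coprime hP (H := zpowers t) (by rwa [Nat.card_zpowers])
  exact mem_bot.mp (this ▸ (⟨hyP, hy⟩ : y ∈ P ⊓ zpowers t))

theorem add_inv {B : Subgroup G} {f : G → ZMod p} (h : ∀ b ∈ B, ∀ c ∈ B, f (b * c) = f b + f c)
    {e c : G} (he : e ∈ B) (hc : c ∈ B) : f (e * c * e⁻¹) = f c := by
  have h1 := h 1 (one_mem _) 1 (one_mem _)
  have h2 := h e he _ (inv_mem he)
  rw [mul_one] at h1
  rw [mul_inv_cancel] at h2
  rw [h _ (mul_mem he hc) _ (inv_mem he), h e he c hc]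
  linear_combination -h1 - h2

theorem RD.hasSection [Finite G] [hp : Fact p.Prime] (hω : ∀ α : (ZMod p)ˣ, α ∈ Submonoid.powers ω)
    (r : RD ω B D t f g) {H : Subgroup G} (hB : B ≤ H) (hD : D ≤ H) (ht : t ∈ H) :
    HasSection (fOver (ZMod p)) H := by
  obtain ⟨k, hk⟩ := exists_pow_coprime (p := p) t
  replace r := r.pow (units_pow_prime_pow ω k)
  replace ht := pow_mem ht (p ^ k)
  generalize t ^ p ^ k = t at r ht hk
  let M : Submonoid (G × SL(3, ZMod p)) :=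
    { carrier := {x | ∃ b ∈ B, ∃ e ∈ D ⊔ zpowers t, ∃ α β, Act B f g e α β ∧
        x = (b * e, mat α β (f b) (g b))}
      one_mem' := by
        have h1 := r.fm 1 (one_mem _) 1 (one_mem _)
        have h2 := r.gm 1 (one_mem _) 1 (one_mem _)
        rw [mul_one, left_eq_add] at h1 h2
        exact ⟨1, one_mem _, 1, one_mem _, 1, 0, act_one, by rw [h1, h2, mat_one, mul_one]; rfl⟩
      mul_mem' := by
        rintro _ _ ⟨b, hb, e, he, α, β, ha, rfl⟩ ⟨b', hb', e', he', α', β', ha', rfl⟩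
        have hc := conj_mem_of ha.1 hb'
        refine ⟨b * (e * b' * e⁻¹), mul_mem hb hc, e * e', mul_mem he he', _, _, ha.mul ha', ?_⟩
        rw [r.fm _ hb _ hc, r.gm _ hb _ hc, (ha.2 _ hb').1, (ha.2 _ hb').2, ← mat_mul, Prod.mk_mul_mk]
        congr 1; group }
  let Γ : Subgroup (G × SL(3, ZMod p)) :=
    { M with
      inv_mem' := fun {x} hx => by
        have : x⁻¹ = x ^ (orderOf x - 1) := by
          rw [inv_eq_iff_mul_eq_one, ← pow_succ', Nat.sub_add_cancel (orderOf_pos x),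
            pow_orderOf_eq_one]
        rw [this]; exact M.pow_mem hx _ }
  have h1 : ∀ x : Γ, (x : G × SL(3, ZMod p)).1 ∈ H := by
    rintro ⟨_, b, hb, e, he, α, β, -, rfl⟩
    exact mul_mem (hB hb) (sup_le hD (zpowers_le.mpr ht) he)
  have h2 : ∀ x : Γ, (x : G × SL(3, ZMod p)).2 ∈ fOver (ZMod p) := by
    rintro ⟨_, b, hb, e, he, α, β, -, rfl⟩
    exact subset_closure ⟨rfl, rfl, rfl, rfl⟩
  refine hasSection_of_pair (((MonoidHom.fst _ _).comp Γ.subtype).codRestrict H h1) ?_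
    (((MonoidHom.snd _ _).comp Γ.subtype).codRestrict _ h2) ?_
  · rw [injective_iff_map_eq_one]
    rintro ⟨_, b, hb, e, he, α, β, ha, rfl⟩ h
    have h3 : b * e = 1 := congrArg Subtype.val h
    have heB : e ∈ B := by rw [eq_inv_of_mul_eq_one_right h3]; exact inv_mem hb
    obtain ⟨d, hd, y, hy, rfl⟩ := exists_mul_of_mem_sup (zpowers_le.mpr r.tD) he
    have hy1 : y = 1 := eq_one_of_coprime r.pg hk hy (by
      simpa using mul_mem (inv_mem (mem_sup_right hd)) (mem_sup_left heB : _ ∈ B ⊔ D))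
    subst hy1
    have h3' := h3
    rw [mul_one] at h3 heB ha
    obtain ⟨h4, h5⟩ := r.inf b hb (by rw [eq_inv_of_mul_eq_one_left h3]; exact inv_mem hd)
    obtain ⟨c, hc, c1, c2⟩ := r.sj 1 0
    obtain ⟨c', hc', c3, c4⟩ := r.sj 0 1
    have h6 := (ha.2 c hc).1
    have h7 := (ha.2 c' hc').1
    rw [add_inv r.fm heB hc, c1, c2] at h6
    rw [add_inv r.fm heB hc', c3, c4] at h7
    have h8 : α = 1 := Units.ext (by simpa using h6.symm)
    have h9 : β = 0 := by simpa using h7.symm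
    apply Subtype.ext
    simp only [h3', h4, h5, h8, h9, mat_one]; rfl
  · have : fOver (ZMod p) ≤ Γ.map (MonoidHom.snd _ _) := by
      refine (closure_le _).mpr ?_
      rintro N ⟨n1, n2, n3, n4⟩
      have hd : N.1 0 0 * N.1 1 1 = 1 := by
        have := N.2
        rw [det_fin_three, n1, n2, n3, n4] at this
        simpa using this
      let α : (ZMod p)ˣ := ⟨N.1 0 0, N.1 1 1, hd, mul_comm (N.1 0 0) _ ▸ hd⟩
      obtain ⟨n, hn⟩ := hω α
      obtain ⟨d, hd', hs⟩ := r.dex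
      have a1 : Act B f g d 1 1 := ⟨r.DB hd', fun b hb => by simpa using hs b hb⟩
      have a2 := (a1.pow_uni (N.1 0 1 * α).val).mul (r.act_t.pow_diag n)
      obtain ⟨b, hb, b1, b2⟩ := r.sj (N.1 0 2) (N.1 1 2)
      refine ⟨_, ⟨b, hb, _, mul_mem (mem_sup_left (pow_mem hd' _))
        (mem_sup_right (pow_mem (mem_zpowers t) n)), _, _, a2, rfl⟩, Subtype.ext ?_⟩
      have hn' : ω ^ n = α := hn
      simp only [MonoidHom.coe_snd, mat, hn', b1, b2]
      ext i j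
      fin_cases i <;> fin_cases j <;> simp [α, n1, n2, n3, n4, mul_assoc, hd]
    rintro ⟨N, hN⟩
    obtain ⟨x, hx, rfl⟩ := this hN
    exact ⟨⟨x, hx⟩, rfl⟩

/-- An eigenvector from the failure of surjectivity. -/
theorem exists_eigen [Finite G] {Y N : Subgroup G} (hY : IsMulCommutative Y) {w : ℕ}
    (ht : t ∈ normalizer (Y : Set G)) (h : ∀ y ∈ Y, t * y * t⁻¹ * (y ^ w)⁻¹ ∈ N) (hN : ¬ Y ≤ N) :
    ∃ z ∈ Y, z ≠ 1 ∧ t * z * t⁻¹ = z ^ w := by
  have hc : ∀ a ∈ Y, ∀ b ∈ Y, Commute a b := fun a ha b hb =>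
    congrArg Subtype.val (hY.is_comm.comm (⟨a, ha⟩ : Y) ⟨b, hb⟩)
  let δ : Y →* Y := MonoidHom.mk' (fun y => ⟨t * y * t⁻¹ * ((y : G) ^ w)⁻¹,
    mul_mem (conj_mem_of ht y.2) (inv_mem (pow_mem y.2 _))⟩) fun a b => Subtype.ext (by
      have h1 := (hc _ a.2 _ b.2).mul_pow w
      have h2 := hc _ (inv_mem (pow_mem a.2 w)) _
        (mul_mem (conj_mem_of ht b.2) (inv_mem (pow_mem b.2 w)))
      simp only [coe_mul, h1]
      rw [mul_assoc (t * a * t⁻¹), h2.eq]
      group)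
  by_contra hne
  push Not at hne
  have hi : Function.Injective δ := (injective_iff_map_eq_one δ).mpr fun a ha => by
    by_contra h1
    exact hne a a.2 (fun h2 => h1 (Subtype.ext h2))
      (mul_inv_eq_one.mp (congrArg Subtype.val ha))
  refine hN fun y hy => ?_
  obtain ⟨a, ha⟩ := Finite.surjective_of_injective hi ⟨y, hy⟩
  have : y = _ := (congrArg Subtype.val ha).symm
  exact this ▸ h a a.2

theorem exists_eigen_lift [Finite G'] {π : G' →* G} {Z : Subgroup G'} (hZ : IsMulCommutative Z)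
    {u : G'} (hu : u ∈ normalizer (Z : Set G')) {w : ℕ} {z : G} (hz : z ∈ Z.map π) (h1 : z ≠ 1)
    (h : π u * z * (π u)⁻¹ = z ^ w) : ∃ y ∈ Z, y ≠ 1 ∧ u * y * u⁻¹ = y ^ w := by
  obtain ⟨y, hy, rfl⟩ := hz
  let E : Subgroup G' := Z ⊓ (zpowers (π y)).comap π
  have hE : u ∈ normalizer (E : Set G') := mem_normalizer_inf hu (mem_normalizer_of_conj_le
    (conj_le_iff.mpr fun x hx => by
      obtain ⟨n, hn⟩ := mem_zpowers_iff.mp (mem_comap.mp hx)
      rw [mem_comap, map_mul, map_mul, map_inv, ← hn, ← conj_zpow, h]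
      exact zpow_mem (pow_mem (mem_zpowers _) _) _))
  obtain ⟨z, hz, h2⟩ := exists_eigen (Y := E) (N := π.ker) (t := u) (w := w)
    (PGroup.isMulCommutative_of_le inf_le_left hZ) hE (fun x hx => by
      obtain ⟨n, hn⟩ := mem_zpowers_iff.mp (mem_comap.mp hx.2)
      rw [MonoidHom.mem_ker, map_mul, map_mul, map_mul, map_inv, map_inv, map_pow, ← hn,
        ← conj_zpow, h, ← zpow_natCast, ← zpow_natCast, ← _root_.zpow_mul, ← _root_.zpow_mul, mul_comm (w : ℤ),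
        mul_inv_cancel]) fun h2 => h1 (h2 (x := y) ⟨hy, mem_zpowers _⟩)
  exact ⟨z, hz.1, h2⟩

end Cfsg.Agent.ZF
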