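import Cfsg.Agent.Lib.ZF.A
import Cfsg.Agent.Lib.PLocal.QuadSL2

/-!
# Failure of `ZJ`-control of fusion, II: the plane attached to a vector, Dickson's lemma
-/

set_option autoImplicit false

namespace Cfsg.Agent.ZF

open Subgroup Cfsg.Lib Cfsg.Lib.Transfer Cfsg.Lib.PLocal Matrix Polynomial
open scoped MatrixGroups

variable {p : ℕ} [hp : Fact p.Prime]

/-- The cyclic module generated by `u` under two square-zero operators has a quotient plane. -/
structure Pl {W : Type*} [AddCommGroup W] (a b : Module.End ℤ W) (C : Submodule ℤ W) (u : W)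
    {K : Type*} [Field K] (μ : K) (U : Submodule ℤ W) (π : W → Fin 2 → K) : Prop where
  ne : μ ≠ 0
  mem : u ∈ U
  ma : ∀ v ∈ U, a v ∈ U
  mb : ∀ v ∈ U, b v ∈ U
  add : ∀ v ∈ U, ∀ w ∈ U, π (v + w) = π v + π w
  pu : π u = ![1, 0]
  pa : ∀ v ∈ U, π (a v) = ![μ * π v 1, 0]
  pb : ∀ v ∈ U, π (b v) = ![0, π v 0]
  ker : ∀ v ∈ U, a v = 0 → v ∈ C

theorem exists_pl {W : Type*} [AddCommGroup W] [Finite W] {a b : Module.End ℤ W} (ha : a * a = 0)
    (hb : b * b = 0) {C : Submodule ℤ W} (h1 : ∀ v ∈ C, a v = 0) (h2 : ∀ v, a v ∈ C)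
    (h3 : ∀ v ∈ C, b v = 0 → v = 0) (h4 : ∀ v, a (b v) = 0 → b v = 0) {u : W} (hu : u ∈ C)
    (hu0 : u ≠ 0) {n : ℕ} (hpn : p ^ n • u = 0) :
    ∃ (μ : AlgebraicClosure (ZMod p)) (U : Submodule ℤ W) (π : W → Fin 2 → _),
      Pl a b C u μ U π := by
  classical
  set c := a * b + b * a with hc
  have ca : Commute a c := by
    rw [Commute, SemiconjBy, hc, mul_add, add_mul, ← mul_assoc, ha, mul_assoc b, ha]
    simp [mul_assoc]
  have cb : Commute b c := by
    rw [Commute, SemiconjBy, hc, mul_add, add_mul, ← mul_assoc b b, hb, mul_assoc a b b, hb]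
    simp [mul_assoc]
  have cE : ∀ {e : Module.End ℤ W}, Commute e c → ∀ (P : ℤ[X]) v,
      e (aeval c P v) = aeval c P (e v) := fun {e} he P v => by
    have : Commute e (aeval c P) := by
      induction P using Polynomial.induction_on' with
      | add P Q h h' => rw [map_add]; exact h.add_right h'
      | monomial k r =>
        rw [aeval_monomial]
        exact Commute.mul_right (Algebra.commutes r e).symm (he.pow_right k)
    exact congrArg (fun T : Module.End ℤ W => T v) this.eq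
  have cC : ∀ v ∈ C, c v = a (b v) := fun v hv => by simp [hc, h1 v hv]
  have hC : ∀ P : ℤ[X], aeval c P u ∈ C := fun P =>
    aeval_apply_smul_mem_of_le_comap hu P c fun v hv => by
      rw [Submodule.mem_comap, cC v hv]; exact h2 _
  have ci : ∀ v ∈ C, c v = 0 → v = 0 := fun v hv h => h3 v hv (h4 v (cC v hv ▸ h))
  have hX : ∀ P : ℤ[X], aeval c (X * P) u = c (aeval c P u) := fun P => by simp
  let I : Ideal ℤ[X] :=
    { carrier := {P | aeval c P u = 0}
      zero_mem' := by simp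
      add_mem' := fun {P Q} hP hQ => by
        simp only [Set.mem_ofPred_eq, map_add, LinearMap.add_apply] at *
        rw [hP, hQ, add_zero]
      smul_mem' := fun Q P hP => by
        simp only [Set.mem_ofPred_eq, smul_eq_mul, map_mul, Module.End.mul_apply] at *
        rw [hP, map_zero] }
  have hI : ∀ P Q : ℤ[X], aeval c P u = aeval c Q u → P - Q ∈ I := fun P Q h => by
    change aeval c (P - Q) u = 0
    rw [map_sub, LinearMap.sub_apply, h, sub_self]
  obtain ⟨m, hm, hIm⟩ := Ideal.exists_le_maximal I (by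
    rw [Ideal.ne_top_iff_one]
    change ¬ aeval c (1 : ℤ[X]) u = 0
    simpa using hu0)
  let _ := Ideal.Quotient.field m
  have : Finite (ℤ[X] ⧸ m) := Finite.of_surjective (fun w : W =>
    if h : ∃ P : ℤ[X], aeval c P u = w then Ideal.Quotient.mk m h.choose else 0) fun y => by
      obtain ⟨P, rfl⟩ := Ideal.Quotient.mk_surjective y
      have h : ∃ Q : ℤ[X], aeval c Q u = aeval c P u := ⟨P, rfl⟩
      exact ⟨aeval c P u, by
        simp only [dif_pos h]; exact Ideal.Quotient.eq.mpr (hIm (hI _ _ h.choose_spec))⟩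
  have : CharP (ℤ[X] ⧸ m) p := by
    refine (CharP.charP_iff_prime_eq_zero hp.out).mpr (pow_eq_zero_iff (n := n) ?_ |>.mp ?_)
    · rintro rfl
      exact hu0 (by simpa using hpn)
    · have : ((p ^ n : ℕ) : ℤ[X]) ∈ I := by
        change aeval c ((p ^ n : ℕ) : ℤ[X]) u = 0
        rw [map_natCast, Module.End.natCast_apply, hpn]
      simpa using Ideal.Quotient.eq_zero_iff_mem.mpr (hIm this)
  let _ := ZMod.algebra (ℤ[X] ⧸ m) p
  let χ : ℤ[X] →+* AlgebraicClosure (ZMod p) :=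
    (IsAlgClosed.lift (R := ZMod p) (S := ℤ[X] ⧸ m)).toRingHom.comp (Ideal.Quotient.mk m)
  have hχ : ∀ P Q : ℤ[X], aeval c P u = aeval c Q u → χ P = χ Q := fun P Q h => by
    simp only [χ, RingHom.comp_apply]
    rw [Ideal.Quotient.eq.mpr (hIm (hI _ _ h))]
  let Θ : ℤ[X] × ℤ[X] →ₗ[ℤ] W :=
    { toFun := fun x => aeval c x.1 u + aeval c x.2 (b u)
      map_add' := fun x y => by simp; abel
      map_smul' := fun r x => by simp }
  have hΘ : ∀ x, Θ x = aeval c x.1 u + aeval c x.2 (b u) := fun _ => rfl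
  have bb : ∀ v, b (b v) = 0 := fun v => congrArg (fun T : Module.End ℤ W => T v) hb
  have hk : ∀ x, Θ x = 0 → aeval c x.1 u = 0 ∧ aeval c x.2 u = 0 := fun x hx => by
    have e1 : aeval c x.1 u = 0 := h3 _ (hC _) (by
      have := congrArg b hx
      rwa [hΘ, map_add, cE cb x.2, bb, map_zero, add_zero, map_zero] at this)
    rw [hΘ, e1, zero_add, ← cE cb] at hx
    exact ⟨e1, h3 _ (hC _) hx⟩
  let π : W → Fin 2 → AlgebraicClosure (ZMod p) := fun w =>
    if h : ∃ x, Θ x = w then ![χ h.choose.1, χ h.choose.2] else 0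
  have hπ : ∀ x, π (Θ x) = ![χ x.1, χ x.2] := fun x => by
    have h : ∃ y, Θ y = Θ x := ⟨x, rfl⟩
    obtain ⟨e1, e2⟩ := hk (h.choose - x) (by rw [map_sub, h.choose_spec, sub_self])
    simp only [Prod.fst_sub, Prod.snd_sub, map_sub, LinearMap.sub_apply, sub_eq_zero] at e1 e2
    simp only [π, dif_pos h, hχ _ _ e1, hχ _ _ e2]
  have ea : ∀ x, a (Θ x) = Θ (X * x.2, 0) := fun x => by
    rw [hΘ, hΘ, map_add, h1 _ (hC _), hX, ← cE cb, ← cC _ (hC _)]; simp
  have eb : ∀ x, b (Θ x) = Θ (0, x.1) := fun x => by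
    rw [hΘ, hΘ, map_add, cE cb x.2, bb, cE cb]; simp
  have eu : u = Θ (1, 0) := by simp [hΘ]
  refine ⟨χ X, LinearMap.range Θ, π, fun h0 => ?_, ⟨_, eu.symm⟩, ?_, ?_, ?_, ?_, ?_, ?_, ?_⟩
  · let R := {w : W // ∃ P : ℤ[X], aeval c P u = w}
    let s : R → R := fun w => ⟨c w, by
      obtain ⟨_, P, rfl⟩ := w
      exact ⟨X * P, hX P⟩⟩
    have hs : Function.Injective s := by
      rintro ⟨_, P, rfl⟩ ⟨_, Q, rfl⟩ h
      have h5 : c (aeval c P u) = c (aeval c Q u) := congrArg Subtype.val h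
      exact Subtype.ext (sub_eq_zero.mp (ci _ (C.sub_mem (hC P) (hC Q))
        (by rw [map_sub, h5, sub_self])))
    obtain ⟨⟨_, P, rfl⟩, h⟩ := Finite.surjective_of_injective hs ⟨u, 1, by simp⟩
    have h5 : c (aeval c P u) = u := congrArg Subtype.val h
    have := hχ (X * P) 1 (by rw [hX, h5]; simp)
    rw [map_mul, h0, zero_mul, map_one] at this
    exact zero_ne_one this
  · rintro _ ⟨x, rfl⟩; exact ⟨_, (ea x).symm⟩
  · rintro _ ⟨x, rfl⟩; exact ⟨_, (eb x).symm⟩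
  · rintro _ ⟨x, rfl⟩ _ ⟨y, rfl⟩
    rw [← map_add, hπ, hπ, hπ]; simp
  · rw [eu, hπ]; simp
  · rintro _ ⟨x, rfl⟩; rw [ea, hπ, hπ]; simp
  · rintro _ ⟨x, rfl⟩; rw [eb, hπ, hπ]; simp
  · rintro _ ⟨x, rfl⟩ h
    rw [ea] at h
    have e1 := ci _ (hC _) (hX x.2 ▸ (hk _ h).1)
    rw [hΘ, ← cE cb, e1, map_zero, add_zero]
    exact hC _

theorem Pl.exists_hom {W : Type*} [AddCommGroup W] {a b : Module.End ℤ W} {C : Submodule ℤ W}
    {u : W} {K : Type*} [Field K] {μ : K} {U : Submodule ℤ W} {π : W → Fin 2 → K}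
    (h : Pl a b C u μ U π) {H : Type*} [Group H] [Finite H] (ρ : H →* Module.End ℤ W) {x y : H}
    (hxy : closure {x, y} = ⊤) (hx : ρ x = 1 + a) (hy : ρ y = 1 + b) :
    ∃ φ : H →* Matrix (Fin 2) (Fin 2) K, (∀ g, (φ g).det = 1) ∧ φ x = !![1, μ; 0, 1] ∧
      φ y = !![1, 0; 1, 1] ∧ ∀ g, ∀ v ∈ U, ρ g v ∈ U ∧ π (ρ g v) = φ g *ᵥ π v := by
  let P : H → Matrix (Fin 2) (Fin 2) K → Prop := fun g M =>
    M.det = 1 ∧ ∀ v ∈ U, ρ g v ∈ U ∧ π (ρ g v) = M *ᵥ π v
  have hu : ∀ g M N, P g M → P g N → M = N := fun g M N hM hN => by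
    have e1 := (hM.2 u h.mem).2.symm.trans (hN.2 u h.mem).2
    have e2 := (hM.2 _ (h.mb u h.mem)).2.symm.trans (hN.2 _ (h.mb u h.mem)).2
    rw [h.pb u h.mem, h.pu] at e2
    rw [h.pu] at e1
    ext i j
    fin_cases j
    · simpa [mulVec, dotProduct] using congrFun e1 i
    · simpa [mulVec, dotProduct] using congrFun e2 i
  have h1 : P 1 1 := ⟨det_one, fun v hv => by simpa using hv⟩
  have hm : ∀ g g' M N, P g M → P g' N → P (g * g') (M * N) := fun g g' M N hM hN =>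
    ⟨by rw [det_mul, hM.1, hN.1, mul_one], fun v hv => by
      rw [map_mul, Module.End.mul_apply, ← mulVec_mulVec, ← (hN.2 v hv).2]
      exact hM.2 _ (hN.2 v hv).1⟩
  have px : P x !![1, μ; 0, 1] := ⟨by simp, fun v hv => by
    rw [hx, LinearMap.add_apply, Module.End.one_apply, h.add _ hv _ (h.ma v hv), h.pa v hv]
    refine ⟨U.add_mem hv (h.ma v hv), ?_⟩
    ext i; fin_cases i <;> simp [mulVec, dotProduct]⟩
  have py : P y !![1, 0; 1, 1] := ⟨by simp, fun v hv => by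
    rw [hy, LinearMap.add_apply, Module.End.one_apply, h.add _ hv _ (h.mb v hv), h.pb v hv]
    refine ⟨U.add_mem hv (h.mb v hv), ?_⟩
    ext i; fin_cases i <;> simp [mulVec, dotProduct, add_comm]⟩
  have ex : ∀ g, ∃ M, P g M := fun g => by
    have hg : g ∈ (closure {x, y}).toSubmonoid := hxy ▸ mem_top g
    rw [closure_toSubmonoid_of_finite] at hg
    induction hg using Submonoid.closure_induction with
    | mem z hz => rcases hz with rfl | rfl; exacts [⟨_, px⟩, ⟨_, py⟩]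
    | one => exact ⟨_, h1⟩
    | mul g g' _ _ hM hN => exact ⟨_, hm _ _ _ _ hM.choose_spec hN.choose_spec⟩
  choose φ hφ using ex
  exact ⟨⟨⟨φ, hu _ _ _ (hφ 1) h1⟩, fun g g' => hu _ _ _ (hφ _) (hm _ _ _ _ (hφ g) (hφ g'))⟩,
    fun g => (hφ g).1, hu _ _ _ (hφ x) px, hu _ _ _ (hφ y) py, fun g => (hφ g).2⟩

theorem trace_two {K : Type*} [Field K] {M : Matrix (Fin 2) (Fin 2) K} (hd : M.det = 1)
    (h : (M - 1) * (M - 1) = 0) : M 0 0 + M 1 1 = 2 := by
  rw [det_fin_two] at hd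
  have h1 := congrFun (congrFun h 0) 0
  have h2 := congrFun (congrFun h 0) 1
  simp [mul_apply, Fin.sum_univ_two] at h1 h2
  by_contra h3
  have h4 := sub_ne_zero.mpr h3
  have e1 : M 0 0 = 0 := mul_right_cancel₀ h4 (by linear_combination h1 + hd)
  have e2 : M 0 1 = 0 := mul_right_cancel₀ h4 (by linear_combination h2)
  simp [e1, e2] at hd

theorem mat_eq {K : Type*} [Field K] {M : Matrix (Fin 2) (Fin 2) K} (hd : M.det = 1) {w w' : K}
    (hw : w * w' = 1) (h : M *ᵥ ![1, 0] = w • ![1, 0]) : M = !![w, M 0 1; 0, w'] := by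
  have h1 := congrFun h 0
  have h2 := congrFun h 1
  simp [mulVec, dotProduct] at h1 h2
  rw [det_fin_two, h1, h2] at hd
  ext i j
  fin_cases i <;> fin_cases j <;> simp [h1, h2]
  linear_combination w' * hd - M 1 1 * hw

theorem dickson (hp2 : p ≠ 2) {K : Type*} [Field K] [IsAlgClosed K] [Algebra (ZMod p) K]
    [Algebra.IsAlgebraic (ZMod p) K] {H : Type*} [Group H] [Finite H]
    (φ : H →* Matrix (Fin 2) (Fin 2) K) (hd : ∀ g, (φ g).det = 1) {x y : H}
    (hxy : closure {x, y} = ⊤) {μ : K} (hμ : μ ≠ 0) (hx : φ x = !![1, μ; 0, 1])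
    (hy : φ y = !![1, 0; 1, 1]) {T : Subgroup H} (hT : IsPGroup p T) (hTi : ¬ p ∣ T.index)
    (hxT : x ∈ T) (ω : (ZMod p)ˣ) :
    (∀ g ∈ T, φ g *ᵥ ![1, 0] = ![1, 0]) ∧ ∃ t ∈ normalizer (T : Set H), (orderOf t).Coprime p ∧
      φ t *ᵥ ![1, 0] = algebraMap (ZMod p) K ω • ![1, 0] := by
  have : CharP K p := charP_of_injective_algebraMap (algebraMap (ZMod p) K).injective p
  have uni : ∀ g ∈ T, φ g *ᵥ ![1, 0] = ![1, 0] := by
    have h1 : ∀ g ∈ T, (φ g - 1) * (φ g - 1) = 0 := fun g hg => by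
      obtain ⟨k, hk⟩ := Core.isPGroup_subgroup_iff.mp hT g hg
      exact sub_one_sq_eq_zero_of_pow_char_pow p (k := k) (by rw [← map_pow, hk, map_one])
    intro g hg
    have h2 := trace_two (hd _) (h1 _ (mul_mem hg hxT))
    have h3 := trace_two (hd _) (h1 _ hg)
    rw [map_mul, hx] at h2
    simp [mul_apply, Fin.sum_univ_two] at h2
    have h4 : φ g 1 0 = 0 := mul_right_cancel₀ hμ (by linear_combination h2 - h3)
    have h5 := congrFun (congrFun (h1 g hg) 0) 0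
    simp [mul_apply, Fin.sum_univ_two, h4, sub_eq_zero] at h5
    ext i; fin_cases i <;> simp [mulVec, dotProduct, h4, h5]
  refine ⟨uni, ?_⟩
  obtain ⟨L, π, τ, hπ, hτ, hφ⟩ := exists_sl_two_of_pair hp2 φ hxy hμ hx hy
  obtain ⟨ψ, ι, hψ, hι, hι'⟩ := exists_natural_of_injective hp2 τ hτ
  obtain ⟨lu, hlu⟩ := (hψ.comp hπ) ⟨!![1, 1; 0, 1], by simp⟩
  obtain ⟨ld, hld⟩ := (hψ.comp hπ) ⟨!![ω, 0; 0, (ω⁻¹ : (ZMod p)ˣ)], by
    rw [det_fin_two_of, Units.mul_inv, mul_zero, sub_zero]⟩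
  simp only [Function.comp] at hlu hld
  have u1 : φ lu *ᵥ ι ![1, 0] = ι ![1, 0] := by
    rw [← hφ, hι', hlu]; congr 1; ext i; fin_cases i <;> simp [mulVec, dotProduct]
  have u2 : φ lu *ᵥ ι ![0, 1] = ι ![0, 1] + ι ![1, 0] := by
    rw [← hφ, hι', hlu, ← map_add]; congr 1; ext i; fin_cases i <;> simp [mulVec, dotProduct]
  have d1 : φ ld *ᵥ ι ![1, 0] = algebraMap (ZMod p) K ω • ι ![1, 0] := by
    rw [← hφ, hι', hld, ← map_smul]; congr 1
    dsimp only
    generalize ((ω⁻¹ : (ZMod p)ˣ) : ZMod p) = ω'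
    ext i; fin_cases i <;> simp [mulVec, dotProduct]
  have u3 : ∀ n : ℕ, φ (lu ^ n) *ᵥ ι ![1, 0] = ι ![1, 0] ∧
      φ (lu ^ n) *ᵥ ι ![0, 1] = ι ![0, 1] + (n : K) • ι ![1, 0] := fun n => by
    induction n with
    | zero => simp
    | succ n ih =>
      rw [pow_succ, map_mul, ← mulVec_mulVec, ← mulVec_mulVec, u1, u2, mulVec_add, ih.1, ih.2]
      exact ⟨rfl, by push_cast; module⟩
  have e0 : ι ![1, 0] ≠ 0 := fun h => by
    have := congrFun (hι (h.trans (map_zero ι).symm)) 0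
    simp at this
  obtain ⟨k, m, hm, e⟩ := Nat.exists_eq_pow_mul_and_not_dvd (orderOf_pos (lu : H)).ne' p
    hp.out.ne_one
  obtain ⟨h, hh⟩ := exists_conj_le_of_not_dvd_index hTi (Q := zpowers ((lu : H) ^ m))
    (IsPGroup.of_card_dvd_pow (n := k) (by
      rw [Nat.card_zpowers]
      exact orderOf_dvd_of_pow_eq_one (by rw [← pow_mul, mul_comm, ← e, pow_orderOf_eq_one])))
  have hv := conj_le_iff.mp hh _ (mem_zpowers _)
  have cj : ∀ g v, φ (h * g * h⁻¹) *ᵥ (φ h *ᵥ v) = φ h *ᵥ (φ g *ᵥ v) := fun g v => by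
    rw [mulVec_mulVec, mulVec_mulVec, ← map_mul, ← map_mul, inv_mul_cancel_right]
  have inj : ∀ v, φ h *ᵥ v = 0 → v = 0 := fun v hv => by
    have := congrArg (φ h⁻¹ *ᵥ ·) hv
    simpa only [mulVec_mulVec, ← map_mul, inv_mul_cancel, map_one, one_mulVec, mulVec_zero]
      using this
  have v1 := mat_eq (hd _) (mul_one 1) ((uni _ hv).trans (one_smul _ _).symm)
  have v2 := cj (lu ^ m) (ι ![1, 0])
  have v3 := cj (lu ^ m) (ι ![0, 1])
  rw [(u3 m).1] at v2
  rw [(u3 m).2, mulVec_add, mulVec_smul] at v3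
  have v4 := cj ld (ι ![1, 0])
  rw [d1, mulVec_smul] at v4
  have e1 := mt (inj _) e0
  generalize φ h *ᵥ ι ![1, 0] = e' at v2 v3 v4 e1
  have hm' : (m : K) ≠ 0 := by rwa [Ne, CharP.cast_eq_zero_iff K p]
  have e2 : e' 1 = 0 := by
    have := congrFun v3 1
    rw [v1] at this
    simpa [mulVec, dotProduct, hm'] using this
  have e3 : e' = e' 0 • ![1, 0] := by ext i; fin_cases i <;> simp [e2]
  have e4 : e' 0 ≠ 0 := fun h => e1 (by rw [e3, h, zero_smul])
  have v5 : φ (h * ld * h⁻¹) *ᵥ ![1, 0] = algebraMap (ZMod p) K ω • ![1, 0] := by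
    rw [e3, mulVec_smul, smul_comm] at v4
    exact smul_right_injective _ e4 v4
  generalize h * ld * h⁻¹ = d at v5
  let St : Subgroup H :=
    { carrier := {g | φ g *ᵥ ![1, 0] = ![1, 0]}
      one_mem' := by simp
      mul_mem' := fun {g g'} hg hg' => by
        simp only [Set.mem_ofPred_eq] at *
        rw [map_mul, ← mulVec_mulVec, hg', hg]
      inv_mem' := fun {g} hg => by
        simp only [Set.mem_ofPred_eq] at *
        conv_lhs => rw [← hg]
        rw [mulVec_mulVec, ← map_mul, inv_mul_cancel, map_one, one_mulVec] }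
  have hω : algebraMap (ZMod p) K ω ≠ 0 := by simp
  have hdS : d⁻¹ ∈ normalizer (St : Set H) := mem_normalizer_of_conj_le (conj_le_iff.mpr
    fun g hg => by
      have hg' : φ g *ᵥ ![1, 0] = ![1, 0] := hg
      change φ _ *ᵥ ![1, 0] = ![1, 0]
      have h7 : φ d⁻¹ *ᵥ (algebraMap (ZMod p) K ω • ![1, 0]) = ![1, 0] := by
        rw [← v5, mulVec_mulVec, ← map_mul, inv_mul_cancel, map_one, one_mulVec]
      rw [inv_inv, map_mul, map_mul, ← mulVec_mulVec, ← mulVec_mulVec, v5, mulVec_smul, hg', h7])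
  obtain ⟨n, hn, hnd⟩ := frattini_argument (T := T) (N := St) uni hT
    (fun h => hTi (h.trans (relIndex_dvd_index_of_le uni))) le_rfl
    (inv_inv d ▸ inv_mem hdS)
  obtain ⟨j, hj⟩ := exists_pow_coprime (p := p) (n * d)
  refine ⟨_, pow_mem hnd _, hj, ?_⟩
  have h8 : φ (n * d) *ᵥ ![1, 0] = algebraMap (ZMod p) K ω • ![1, 0] := by
    have hn' : φ n *ᵥ ![1, 0] = ![1, 0] := hn
    rw [map_mul, ← mulVec_mulVec, v5, mulVec_smul, hn']
  have h9 : ∀ i : ℕ, φ ((n * d) ^ i) *ᵥ ![1, 0] =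
      algebraMap (ZMod p) K (ω ^ i : (ZMod p)ˣ) • ![1, 0] := fun i => by
    induction i with
    | zero => simp
    | succ i ih =>
      rw [pow_succ, map_mul, ← mulVec_mulVec, h8, mulVec_smul, ih, smul_smul, pow_succ']
      simp
  rw [h9, units_pow_prime_pow]

end Cfsg.Agent.ZF
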