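import Cfsg.Agent.Lib.ZF.B

/-!
# Failure of `ZJ`-control of fusion, III: the quadratic engine on an abelian normal subgroup
-/

set_option autoImplicit false

namespace Cfsg.Agent.ZF

open Subgroup Cfsg.Lib Cfsg.Lib.Transfer Cfsg.Lib.PLocal Matrix
open scoped MatrixGroups commutatorElement

variable {p : ℕ} [hp : Fact p.Prime] {G : Type*} [Group G]

/-- An abelian normal subgroup `V` written additively. -/
structure Md (V : Subgroup G) {W : Type*} [AddCommGroup W] (ρ : G →* Module.End ℤ W)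
    (e : W → G) : Prop where
  inj : Function.Injective e
  add : ∀ v w, e (v + w) = e v * e w
  mem : ∀ g, g ∈ V ↔ ∃ w, e w = g
  act : ∀ g w, e (ρ g w) = g * e w * g⁻¹

open scoped IsMulCommutative in
theorem exists_md.{u} {G : Type u} [Group G] (V : Subgroup G) [V.Normal] [IsMulCommutative V] :
    ∃ (W : Type u) (_ : AddCommGroup W) (ρ : G →* Module.End ℤ W) (e : W → G), Md V ρ e :=
  ⟨Additive V, inferInstance,
   { toFun := fun g =>
       (MonoidHom.toAdditive (MulAut.conjNormal g : V ≃* V).toMonoidHom).toIntLinearMap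
     map_one' := by ext w; simp
     map_mul' := fun g h => by ext w; simp }, fun w => (w.toMul : G),
   fun v w h => Additive.toMul.injective (Subtype.ext h), fun _ _ => rfl,
   fun g => ⟨fun h => ⟨Additive.ofMul ⟨g, h⟩, rfl⟩, by rintro ⟨w, rfl⟩; exact w.toMul.2⟩,
   fun g w => by simp⟩

section
variable {V : Subgroup G} {W : Type*} [AddCommGroup W] {ρ : G →* Module.End ℤ W} {e : W → G}
  (m : Md V ρ e)
include m

theorem Md.zero : e 0 = 1 := by
  have := m.add 0 0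
  rwa [add_zero, left_eq_mul] at this

theorem Md.neg (w : W) : e (-w) = (e w)⁻¹ :=
  eq_inv_of_mul_eq_one_left (by rw [← m.add, neg_add_cancel, m.zero])

theorem Md.nsmul (n : ℕ) (w : W) : e (n • w) = e w ^ n := by
  induction n with
  | zero => simpa using m.zero
  | succ n ih => rw [succ_nsmul, m.add, ih, pow_succ]

theorem Md.fix {g : G} {w : W} : ρ g w = w ↔ g * e w = e w * g := by
  rw [← m.inj.eq_iff, m.act, mul_inv_eq_iff_eq_mul]

/-- The subgroup attached to a submodule. -/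
def Md.sub (U : AddSubgroup W) : Subgroup G where
  carrier := e '' U
  one_mem' := ⟨0, U.zero_mem, m.zero⟩
  mul_mem' := by
    rintro _ _ ⟨v, hv, rfl⟩ ⟨w, hw, rfl⟩
    exact ⟨_, U.add_mem hv hw, m.add v w⟩
  inv_mem' := by
    rintro _ ⟨v, hv, rfl⟩
    exact ⟨_, U.neg_mem hv, m.neg v⟩

theorem Md.sub_le (U : AddSubgroup W) : m.sub U ≤ V := by
  rintro _ ⟨v, -, rfl⟩
  exact (m.mem _).mpr ⟨v, rfl⟩

theorem Md.norm_sub [Finite G] {U : AddSubgroup W} {g : G} (h : ∀ v ∈ U, ρ g v ∈ U) :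
    g ∈ normalizer ((m.sub U : Subgroup G) : Set G) :=
  mem_normalizer_of_conj_le (conj_le_iff.mpr (by
    rintro _ ⟨v, hv, rfl⟩
    exact ⟨_, h v hv, m.act g v⟩))

end

section
variable {W : Type*} [AddCommGroup W] {a b : Module.End ℤ W} {C : Submodule ℤ W}
    {u : W} {K : Type*} [Field K] {μ : K} {U : Submodule ℤ W} {π : W → Fin 2 → K}
    (h : Pl a b C u μ U π)
include h

theorem Pl.zero : π 0 = 0 := by
  have := h.add 0 U.zero_mem 0 U.zero_mem
  rwa [add_zero, left_eq_add] at this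

theorem Pl.neg {w : W} (hw : w ∈ U) : π (-w) = -π w :=
  eq_neg_of_add_eq_zero_left (by rw [← h.add _ (U.neg_mem hw) _ hw, neg_add_cancel, h.zero])

theorem Pl.nsmul {w : W} (hw : w ∈ U) (n : ℕ) : π (n • w) = (n : K) • π w := by
  induction n with
  | zero => simpa using h.zero
  | succ n ih =>
    rw [succ_nsmul, h.add _ (U.smul_of_tower_mem n hw) _ hw, ih, Nat.cast_succ, add_smul, one_smul]

/-- The preimage of an additive subgroup of the plane. -/
def Pl.pre (J : AddSubgroup (Fin 2 → K)) : AddSubgroup W where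
  carrier := {w | w ∈ U ∧ π w ∈ J}
  zero_mem' := ⟨U.zero_mem, h.zero ▸ J.zero_mem⟩
  add_mem' := fun {v w} hv hw => ⟨U.add_mem hv.1 hw.1, h.add v hv.1 w hw.1 ▸ J.add_mem hv.2 hw.2⟩
  neg_mem' := fun {v} hv => ⟨U.neg_mem hv.1, h.neg hv.1 ▸ J.neg_mem hv.2⟩

end

theorem eq_neg_one {K : Type*} [Field K] [CharP K p] {M : Matrix (Fin 2) (Fin 2) K} {β : K}
    (hM : M = !![-1, β; 0, -1]) {n : ℕ} (hn : n.Coprime p) (h : M ^ n = 1) : β = 0 := by
  have h1 : ∀ k : ℕ, M ^ k = (-1 : K) ^ k • !![1, -(k : K) * β; 0, 1] := fun k => by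
    induction k with
    | zero => ext i j; fin_cases i <;> fin_cases j <;> simp
    | succ k ih =>
      rw [pow_succ, ih, hM]
      ext i j; fin_cases i <;> fin_cases j <;> simp [mul_apply, Fin.sum_univ_two, pow_succ]
      ring
  have h2 := congrFun (congrFun ((h1 n).symm.trans h) 0) 1
  have h3 : (n : K) ≠ 0 := by
    rw [Ne, CharP.cast_eq_zero_iff K p]
    exact (Nat.Prime.coprime_iff_not_dvd hp.out).mp hn.symm
  simpa [h3] using h2

theorem cast_val {K : Type*} [Field K] [Algebra (ZMod p) K] (r : ZMod p) :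
    ((r.val : ℕ) : K) = algebraMap (ZMod p) K r := by
  conv_rhs => rw [← ZMod.natCast_zmod_val r, map_natCast]

theorem exists_rd (hp2 : p ≠ 2) [Finite G] {ω : (ZMod p)ˣ} {n : ℕ} (hω : ω ^ n = -1)
    {V : Subgroup G} [V.Normal] (hV : IsPGroup p V) {W : Type*} [AddCommGroup W]
    {ρ : G →* Module.End ℤ W}
    {e : W → G} (m : Md V ρ e) {a b : Module.End ℤ W} {C : Submodule ℤ W}
    {u : W} {K : Type*} [Field K] [Algebra (ZMod p) K] {μ : K} {U : Submodule ℤ W}
    {π : W → Fin 2 → K} (h : Pl a b C u μ U π) {H : Subgroup G}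
    (φ : H →* Matrix (Fin 2) (Fin 2) K) (hd : ∀ g, (φ g).det = 1) {x t : H}
    (hx : φ x = !![1, μ; 0, 1]) (hφ : ∀ g : H, ∀ v ∈ U, ρ g v ∈ U ∧ π (ρ g v) = φ g *ᵥ π v)
    {T : Subgroup H} (hT : IsPGroup p T) (hxT : x ∈ T) (ht : t ∈ normalizer (T : Set H))
    (htc : (orderOf t).Coprime p) (htv : φ t *ᵥ ![1, 0] = algebraMap (ZMod p) K ω • ![1, 0]) :
    ∃ B D f g, RD ω B D (t : G) f g ∧ B ≤ V ∧ D ≤ T.map H.subtype := by
  classical
  have : CharP K p := charP_of_injective_algebraMap (algebraMap (ZMod p) K).injective p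
  set ι := algebraMap (ZMod p) K with hι
  have two : (2 : K) ≠ 0 := fun h2 => hp2 ((Nat.prime_dvd_prime_iff_eq hp.out Nat.prime_two).mp
    ((CharP.cast_eq_zero_iff K p 2).mp (by simpa using h2)))
  have hw : ι ω * ι (ω⁻¹ : (ZMod p)ˣ) = 1 := by rw [← map_mul, Units.mul_inv, map_one]
  have t1 := mat_eq (hd t) hw htv
  generalize φ t 0 1 = β at t1
  have t2 : φ (t ^ n) = -1 := by
    have h9 : ∀ i : ℕ, φ (t ^ i) *ᵥ ![1, 0] = ι (ω ^ i : (ZMod p)ˣ) • ![1, 0] := fun i => by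
      induction i with
      | zero => simp
      | succ i ih =>
        rw [pow_succ, map_mul, ← mulVec_mulVec, htv, mulVec_smul, ih, smul_smul, pow_succ']
        simp
    have h1 := mat_eq (hd (t ^ n)) (w := -1) (w' := -1) (by simp) (by rw [h9, hω]; simp)
    have h2 := eq_neg_one h1 htc (by
      rw [← map_pow, ← pow_mul, mul_comm, pow_mul, pow_orderOf_eq_one, one_pow, map_one])
    rw [h1, h2]
    ext i j; fin_cases i <;> fin_cases j <;> simp
  obtain ⟨w₃, hw₃, v1, v2⟩ : ∃ w₃ ∈ U, π w₃ 1 ≠ 0 ∧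
      φ t *ᵥ π w₃ = ι (ω⁻¹ : (ZMod p)ˣ) • π w₃ := by
    have hb := h.mb u h.mem
    have h1 : π (b u) = ![0, 1] := by rw [h.pb u h.mem, h.pu]; simp
    by_cases h2 : ι ω = ι (ω⁻¹ : (ZMod p)ˣ)
    · have h3 : ι ω = -1 := by
        rw [← h2] at hw
        refine (mul_self_eq_one_iff.mp hw).resolve_left fun h4 => two ?_
        have := congrArg (fun z : (ZMod p)ˣ => ι z) hω
        simp only [Units.val_pow_eq_pow_val, map_pow, h4, one_pow, Units.val_neg, Units.val_one,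
          map_neg, map_one] at this
        linear_combination this
      rw [← h2, h3] at t1 ⊢
      have h4 := eq_neg_one t1 htc (by rw [← map_pow, pow_orderOf_eq_one, map_one])
      refine ⟨_, hb, by simp [h1], ?_⟩
      rw [t1, h1, h4]
      ext i; fin_cases i <;> simp [mulVec, dotProduct]
    · have h3 := U.smul_of_tower_mem (ω : ZMod p).val hb
      have h4 : π (ρ t (b u) + -((ω : ZMod p).val • b u)) = ![β, ι (ω⁻¹ : (ZMod p)ˣ) - ι ω] := by
        rw [h.add _ (hφ t _ hb).1 _ (U.neg_mem h3), h.neg h3, h.nsmul hb, (hφ t _ hb).2, cast_val,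
          h1, t1]
        generalize ι (ω⁻¹ : (ZMod p)ˣ) = s
        ext i; fin_cases i <;> simp [← hι, sub_eq_add_neg]
      refine ⟨_, U.add_mem (hφ t _ hb).1 (U.neg_mem h3), ?_, ?_⟩
      · rw [h4]; exact sub_ne_zero.mpr (Ne.symm h2)
      · rw [h4, t1]
        generalize ι (ω⁻¹ : (ZMod p)ˣ) = s
        ext i; fin_cases i <;> simp [mulVec, dotProduct]
        ring
  let j : ZMod p × ZMod p →+ (Fin 2 → K) :=
    { toFun := fun r => ι r.1 • π (a w₃) + ι r.2 • π w₃
      map_zero' := by simp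
      map_add' := fun r s => by simp only [Prod.fst_add, Prod.snd_add, map_add]; module }
  have hj : ∀ r s, j (r, s) = ![ι r * (μ * π w₃ 1) + ι s * π w₃ 0, ι s * π w₃ 1] := fun r s => by
    change ι r • π (a w₃) + ι s • π w₃ = _
    rw [h.pa _ hw₃]
    ext i; fin_cases i <;> simp
  have ji : Function.Injective j := (injective_iff_map_eq_zero j).mpr fun rs hr => by
    obtain ⟨r, s⟩ := rs
    rw [hj] at hr
    have h1 := congrFun hr 0
    have h2 := congrFun hr 1
    simp [v1] at h2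
    simp [h2, v1, h.ne] at h1
    simp [h1, h2]
  let F : G → ZMod p × ZMod p := fun g =>
    if hg : ∃ r, ∃ w ∈ U, e w = g ∧ π w = j r then hg.choose else 0
  have hF : ∀ w ∈ U, ∀ r, π w = j r → F (e w) = r := fun w hw r hr => by
    have hg : ∃ r, ∃ w' ∈ U, e w' = e w ∧ π w' = j r := ⟨r, w, hw, rfl, hr⟩
    obtain ⟨w', -, h1, h2⟩ := hg.choose_spec
    rw [m.inj h1, hr] at h2
    simp only [F, dif_pos hg]
    exact (ji h2).symm
  let un : ZMod p → Matrix (Fin 2) (Fin 2) K := fun i => !![1, ι i * μ; 0, 1]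
  have un_add : ∀ i k, un i * un k = un (i + k) := fun i k => by
    ext r s; fin_cases r <;> fin_cases s <;> simp [un, mul_apply, Fin.sum_univ_two]
    ring
  have un_zero : un 0 = 1 := by ext r s; fin_cases r <;> fin_cases s <;> simp [un]
  let St : Subgroup H :=
    { carrier := {g | ∃ i, φ g = un i}
      one_mem' := ⟨0, by rw [map_one, un_zero]⟩
      mul_mem' := by
        rintro g g' ⟨i, hi⟩ ⟨k, hk⟩
        exact ⟨i + k, by rw [map_mul, hi, hk, un_add]⟩
      inv_mem' := by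
        rintro g ⟨i, hi⟩
        refine ⟨-i, ?_⟩
        rw [← mul_one (φ g⁻¹), ← un_zero, ← add_neg_cancel i, ← un_add, ← hi, ← mul_assoc,
          ← map_mul, inv_mul_cancel, map_one, one_mul] }
  have htS : t ∈ normalizer (St : Set H) := mem_normalizer_of_conj_le (conj_le_iff.mpr (by
    rintro g ⟨i, hi⟩
    refine ⟨ω * ω * i, ?_⟩
    have h1 : φ t * un i = un (ω * ω * i) * φ t := by
      rw [t1]
      generalize ι (ω⁻¹ : (ZMod p)ˣ) = s at hw
      ext r s; fin_cases r <;> fin_cases s <;> simp [un, mul_apply, Fin.sum_univ_two]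
      linear_combination (-ι ω * ι i * μ) * hw
    rw [map_mul, map_mul, hi, h1, mul_assoc, ← map_mul, mul_inv_cancel, map_one, mul_one]))
  have aun : ∀ i r s, un i *ᵥ j (r, s) = j (r + i * s, s) := fun i r s => by
    rw [hj, hj]
    ext k; fin_cases k <;> simp [un, mulVec, dotProduct]
    ring
  have at' : ∀ r s, φ t *ᵥ j (r, s) = j (ω * r, (ω⁻¹ : (ZMod p)ˣ) * s) := fun r s => by
    change φ t *ᵥ (ι r • π (a w₃) + ι s • π w₃) = ι (ω * r) • π (a w₃) + ι (_ * s) • π w₃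
    have h1 : π (a w₃) = (μ * π w₃ 1) • ![1, 0] := by
      rw [h.pa _ hw₃]; ext i; fin_cases i <;> simp
    rw [mulVec_add, mulVec_smul, mulVec_smul, v2, h1, mulVec_smul, htv, map_mul, map_mul]
    module
  let D : Subgroup H := T ⊓ St ⊓ centralizer (zpowers (t ^ n) : Set H)
  obtain ⟨d₀, hd₀, hd₁⟩ : ∃ d₀ ∈ D, φ d₀ = un 1 := by
    have h1 : zpowers (t ^ n) ≤ normalizer (T : Set H) := zpowers_le.mpr (pow_mem ht n)
    obtain ⟨k, hk, h2⟩ := Coprime.exists_mul_mem_centralizer' (A := zpowers (t ^ n))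
      (N := T ⊓ φ.ker) (Core.le_normalizer_inf h1 le_normalizer_of_normal)
      (Core.coprime_card_of_isPGroup (hT.to_le inf_le_left) (by
        rw [Nat.card_zpowers]; exact htc.coprime_dvd_left (orderOf_pow_dvd n))).symm
      (Or.inl inferInstance) (k := x) fun c hc => ⟨T.mul_mem (conj_mem_of (h1 hc) hxT) (T.inv_mem hxT), by
        obtain ⟨i, rfl⟩ := mem_powers_iff_mem_zpowers.mpr hc
        have h3 : φ ((t ^ n) ^ i) * φ x = φ x * φ ((t ^ n) ^ i) := by
          rw [map_pow, t2]; exact ((Commute.neg_one_left _).pow_left i).eq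
        change φ ((t ^ n) ^ i * x * ((t ^ n) ^ i)⁻¹ * x⁻¹) = 1
        rw [map_mul, map_mul, map_mul, h3, ← map_mul, ← map_mul, ← map_mul, mul_inv_cancel_right,
          mul_inv_cancel, map_one]⟩
    have h3 : φ (k * x) = un 1 := by
      rw [map_mul, show φ k = 1 from hk.2, one_mul, hx]; simp [un]
    exact ⟨k * x, ⟨⟨mul_mem hk.1 hxT, 1, h3⟩, h2⟩, h3⟩
  have hB : ∀ g : H, (∀ r, ∃ s, φ g *ᵥ j r = j s) →
      (g : G) ∈ normalizer ((m.sub (h.pre j.range) : Subgroup G) : Set G) := fun g hg =>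
    m.norm_sub fun v hv => ⟨(hφ g v hv.1).1, by
      obtain ⟨r, hr⟩ := hv.2
      obtain ⟨s, hs⟩ := hg r
      exact ⟨s, by rw [(hφ g v hv.1).2, ← hr, hs]⟩⟩
  have hA : ∀ (g : H) (w : W), w ∈ U → ∀ r s, π w = j r → φ g *ᵥ j r = j s →
      F (g * e w * (g : G)⁻¹) = s := fun g w hw r s h1 h2 => by
    rw [← m.act]
    exact hF _ (hφ g w hw).1 _ (by rw [(hφ g w hw).2, h1, h2])
  refine ⟨m.sub (h.pre j.range), D.map H.subtype, fun g => (F g).1, fun g => (F g).2,
    ⟨?_, ?_, ?_, fun r s => ?_, ?_, hB t fun r => ⟨_, at' r.1 r.2⟩, ?_, ?_, ?_, ?_, ?_⟩,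
    m.sub_le _, map_mono (inf_le_left.trans inf_le_left)⟩
  · exact (hV.to_sup_of_normal_left (hT.map H.subtype)).to_le
      (sup_le_sup (m.sub_le _) (map_mono (inf_le_left.trans inf_le_left)))
  · rintro _ ⟨v, ⟨hv, r, hr⟩, rfl⟩ _ ⟨w, ⟨hw, s, hs⟩, rfl⟩
    rw [← m.add, hF _ (U.add_mem hv hw) (r + s) (by rw [h.add _ hv _ hw, map_add, hr, hs]),
      hF _ hv _ hr.symm, hF _ hw _ hs.symm, Prod.fst_add]
  · rintro _ ⟨v, ⟨hv, r, hr⟩, rfl⟩ _ ⟨w, ⟨hw, s, hs⟩, rfl⟩
    rw [← m.add, hF _ (U.add_mem hv hw) (r + s) (by rw [h.add _ hv _ hw, map_add, hr, hs]),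
      hF _ hv _ hr.symm, hF _ hw _ hs.symm, Prod.snd_add]
  · have h1 := U.smul_of_tower_mem r.val (h.ma _ hw₃)
    have h2 := U.smul_of_tower_mem s.val hw₃
    have h3 : π (r.val • a w₃ + s.val • w₃) = j (r, s) := by
      rw [h.add _ h1 _ h2, h.nsmul (h.ma _ hw₃), h.nsmul hw₃, cast_val, cast_val]; rfl
    refine ⟨_, ⟨_, ⟨U.add_mem h1 h2, _, h3.symm⟩, rfl⟩, ?_⟩
    simp only [hF _ (U.add_mem h1 h2) _ h3, and_self]
  · rintro _ ⟨d, ⟨⟨-, i, hi⟩, -⟩, rfl⟩
    exact hB d fun r => ⟨_, hi ▸ aun i r.1 r.2⟩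
  · exact le_normalizer_map H.subtype (mem_map_of_mem H.subtype (mem_normalizer_inf
      (mem_normalizer_inf ht htS) (Core.normalizer_le_normalizer_centralizer _
        (centralizer_le_normalizer _ (by
          rw [Core.centralizer_zpowers, mem_centralizer_singleton_iff]
          exact (Commute.self_pow t n).eq)))))
  · rintro _ ⟨d, ⟨⟨-, i, hi⟩, -⟩, rfl⟩
    refine ⟨i, ?_⟩
    rintro _ ⟨v, ⟨hv, r, hr⟩, rfl⟩
    have := hA d v hv r _ hr.symm (hi ▸ aun i r.1 r.2)
    simp only [coe_subtype, this, hF _ hv _ hr.symm, and_self]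
  · refine ⟨d₀, mem_map_of_mem _ hd₀, ?_⟩
    rintro _ ⟨v, ⟨hv, r, hr⟩, rfl⟩
    have := hA d₀ v hv r _ hr.symm (hd₁ ▸ aun 1 r.1 r.2)
    simp only [this, hF _ hv _ hr.symm, one_mul, and_self]
  · rintro _ ⟨v, ⟨hv, r, hr⟩, rfl⟩
    have := hA t v hv r _ hr.symm (at' r.1 r.2)
    simp only [this, hF _ hv _ hr.symm, and_self]
  · rintro _ ⟨v, ⟨hv, -⟩, rfl⟩ ⟨d, ⟨-, hd⟩, h1⟩
    have h2 : ρ (t ^ n : H) v = v := m.fix.mpr (by
      rw [← h1]; exact congrArg Subtype.val (hd _ (mem_zpowers _)))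
    have h3 := (hφ (t ^ n) v hv).2
    rw [h2, t2, neg_mulVec, one_mulVec, eq_neg_iff_add_eq_zero, ← two_smul K, smul_eq_zero] at h3
    simp only [hF v hv 0 (by rw [h3.resolve_left two, map_zero]), Prod.fst_zero, Prod.snd_zero,
      and_self]

end Cfsg.Agent.ZF
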