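import Cfsg.Agent.Lib.ZF.C

/-!
# Failure of `ZJ`-control of fusion, IV: the quadratic engine
-/

set_option autoImplicit false

namespace Cfsg.Agent.ZF

open Subgroup Cfsg.Lib Cfsg.Lib.Transfer Cfsg.Lib.PLocal Matrix
open scoped MatrixGroups commutatorElement

variable {p : ℕ} [hp : Fact p.Prime] {G : Type*} [Group G] [Finite G]

theorem en0 (hp2 : p ≠ 2) {ω : (ZMod p)ˣ} {n : ℕ} (hω : ω ^ n = -1) {V A X M U : Subgroup G}
    [V.Normal] (hV : IsMulCommutative V) (hVp : IsPGroup p V) (hA : IsPGroup p A) (hAX : A ≤ X)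
    (hAM : A ≤ M) (hmax : ∀ E, A ≤ E → E ≤ X → E ≠ X → E ≤ M) {h x y : G} (hh : h ∈ X)
    (hx : x ∈ A) (hy : y ∈ h ⋆ A) (h1 : A ⊔ zpowers y = X) (h2 : zpowers x ⊔ h ⋆ A = X)
    (hq : ⁅⁅V, A⁆, A⁆ = ⊥) (hc : V ⊓ centralizer (X : Set G) = ⊥) (hUV : U ≤ V) (hU : U ≠ ⊥)
    (hMU : M ≤ normalizer (U : Set G)) :
    ∃ B D t f g, RD ω B D t f g ∧ B ≤ V ∧ D ≤ M ∧ t ∈ M ∧
      ∃ z ∈ U, z ≠ 1 ∧ t * z * t⁻¹ = z ^ (ω : ZMod p).val := by
  obtain ⟨W, _, ρ, e, m⟩ := exists_md V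
  have : Finite W := Finite.of_injective e m.inj
  let C : Submodule ℤ W := ⨅ g ∈ A, LinearMap.eqLocus (ρ g) 1
  have hC : ∀ w, w ∈ C ↔ ∀ g ∈ A, ρ g w = w := fun w => by simp [C]
  have hC' : ∀ w, w ∈ C ↔ e w ∈ centralizer (A : Set G) := fun w => by
    simp only [hC, m.fix, mem_centralizer_iff, SetLike.mem_coe]
  have q1 : ∀ g ∈ A, ∀ w, (ρ g - 1) w ∈ C := fun g hg w => by
    rw [hC', LinearMap.sub_apply, Module.End.one_apply, sub_eq_add_neg, m.add, m.neg, m.act]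
    exact commutator_eq_bot_iff_le_centralizer.mp hq (commutator_comm A V ▸
      commutator_mem_commutator hg ((m.mem _).mpr ⟨w, rfl⟩))
  have q2 : ∀ g ∈ h ⋆ A, ∀ w, (ρ y - 1) w = ρ g ((ρ y - 1) w) := fun g hg w => by
    have e1 := (hC _).mp (q1 _ (mem_conj.mp hy) (ρ h⁻¹ w)) _ (mem_conj.mp hg)
    have e2 : (ρ y - 1) w = ρ h ((ρ (h⁻¹ * y * h) - 1) (ρ h⁻¹ w)) := by
      simp only [LinearMap.sub_apply, Module.End.one_apply, map_sub, ← Module.End.mul_apply,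
        ← map_mul]
      simp [mul_assoc]
    rw [e2]
    conv_lhs => rw [← e1]
    simp only [← Module.End.mul_apply, ← map_mul, ← mul_assoc]
    simp
  have fx : ∀ w, X ≤ centralizer {e w} → w = 0 := fun w hw => m.inj (m.zero ▸ mem_bot.mp
    (hc ▸ (⟨(m.mem _).mpr ⟨w, rfl⟩, fun g hg => mem_centralizer_singleton_iff.mp (hw hg)⟩ :
      e w ∈ V ⊓ centralizer (X : Set G))))
  have fx' : ∀ g w, g ∈ centralizer {e w} ↔ ρ g w = w := fun g w => by
    rw [mem_centralizer_singleton_iff, m.fix]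
  have c1 : ∀ v ∈ C, (ρ x - 1) v = 0 := fun v hv => by simp [(hC v).mp hv x hx]
  have pl : ∀ u ∈ C, u ≠ 0 → ∃ (μ : AlgebraicClosure (ZMod p)) (U : Submodule ℤ W)
      (π : W → Fin 2 → _), Pl (ρ x - 1) (ρ y - 1) C u μ U π := fun u hu hu0 => by
    obtain ⟨k, hk⟩ := Core.isPGroup_subgroup_iff.mp hVp _ ((m.mem _).mpr ⟨u, rfl⟩)
    refine exists_pl (n := k) (LinearMap.ext fun v => c1 _ (q1 x hx v)) (LinearMap.ext fun v => ?_)
      c1 (q1 x hx) (fun v hv h3 => fx v ?_) (fun v h3 => fx _ ?_) hu hu0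
      (m.inj (by rw [m.nsmul, hk, m.zero]))
    · rw [Module.End.mul_apply, LinearMap.sub_apply, ← q2 y hy]; simp
    · rw [← h1]
      exact sup_le (fun g hg => (fx' _ _).mpr ((hC v).mp hv g hg))
        (zpowers_le.mpr ((fx' _ _).mpr (by simpa [sub_eq_zero] using h3)))
    · rw [← h2]
      exact sup_le (zpowers_le.mpr ((fx' _ _).mpr (sub_eq_zero.mp h3)))
        fun g hg => (fx' _ _).mpr (q2 g hg v).symm
  let H := closure ({x, y} : Set G)
  have hxH : x ∈ H := subset_closure (by simp)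
  have hyH : y ∈ H := subset_closure (by simp)
  have hHX : H ≤ X := closure_pair_le (hAX hx) (h1 ▸ mem_sup_right (mem_zpowers y))
  have top := closure_pair_eq_top (H := H) rfl hxH hyH
  obtain ⟨T, hxT, hTH, hT, hTi⟩ := exists_sylowIn_ge (hA.to_le (zpowers_le.mpr hx))
    (zpowers_le.mpr hxH)
  replace hxT : x ∈ T := hxT (mem_zpowers x)
  have hom : ∀ {u μ U π}, Pl (K := AlgebraicClosure (ZMod p)) (ρ x - 1) (ρ y - 1) C u μ U π → _ :=
    fun h => h.exists_hom (ρ.comp H.subtype) top (by simp) (by simp)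
  obtain ⟨u₀, ⟨hu₀, hu₁⟩, hu₂⟩ := (bot_or_exists_ne_one _).resolve_left
    (PGroup.inf_centralizer_ne_bot (hVp.to_le hUV) hA (hAM.trans hMU) hU)
  obtain ⟨w₀, rfl⟩ := (m.mem _).mp (hUV hu₀)
  obtain ⟨μ₀, U₀, π₀, P₀⟩ := pl w₀ ((hC' _).mpr hu₁) fun h => hu₂ (h ▸ m.zero)
  obtain ⟨φ₀, -, -, -, hU₀⟩ := hom P₀
  have n₀ : H ≤ normalizer ((m.sub U₀.toAddSubgroup : Subgroup G) : Set G) := fun g hg =>
    m.norm_sub fun v hv => (hU₀ ⟨g, hg⟩ v hv).1
  have k₀ : m.sub U₀.toAddSubgroup ⊓ centralizer (T : Set G) ≤ centralizer (A : Set G) := by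
    rintro _ ⟨⟨v, hv, rfl⟩, h3⟩
    exact (hC' v).mp (P₀.ker v hv (by simpa [sub_eq_zero] using m.fix.mpr (h3 x hxT)))
  have hNM : H ⊓ normalizer (T : Set G) ≤ M := by
    refine (le_inf (inf_le_left.trans hHX) (Core.le_normalizer_inf (inf_le_left.trans n₀)
      (Core.le_normalizer_centralizer inf_le_right))).trans (hmax _ (le_inf hAX
        ((le_centralizer_iff.mp k₀).trans (centralizer_le_normalizer _))) inf_le_left fun h3 => ?_)
    refine PGroup.inf_centralizer_ne_bot (hVp.to_le (m.sub_le U₀.toAddSubgroup)) hT (hTH.trans n₀)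
      (fun h4 => hu₂ (mem_bot.mp (h4 ▸ ⟨w₀, P₀.mem, rfl⟩))) (le_bot_iff.mp (hc ▸ le_inf
        (inf_le_left.trans (m.sub_le _)) ?_))
    have h4 := conj_mono h k₀
    rw [conj_eq_self_iff.mpr (h3.ge hh).2, conj_centralizer] at h4
    rw [← h1, Core.centralizer_sup]
    exact le_inf k₀ (h4.trans (centralizer_le (zpowers_le.mpr hy)))
  have hTM : T ≤ M := (le_inf hTH le_normalizer).trans hNM
  obtain ⟨u, ⟨⟨hu, w, hw, rfl⟩, huT⟩, hu0⟩ := (bot_or_exists_ne_one _).resolve_left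
    (PGroup.inf_centralizer_ne_bot (N := U ⊓ m.sub U₀.toAddSubgroup)
      (hVp.to_le (inf_le_left.trans hUV)) hT
      (Core.le_normalizer_inf (hTM.trans hMU) (hTH.trans n₀))
      fun h4 => hu₂ (mem_bot.mp (h4 ▸ ⟨hu₀, w₀, P₀.mem, rfl⟩)))
  obtain ⟨μ, U₁, π, P⟩ := pl w ((hC' _).mpr (k₀ ⟨⟨w, hw, rfl⟩, huT⟩)) fun h => hu0 (h ▸ m.zero)
  obtain ⟨φ, hd, φx, φy, hφ⟩ := hom P
  obtain ⟨-, t, ht, htc, htv⟩ := dickson hp2 φ hd top P.ne φx φy (T := T.subgroupOf H)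
    hT.comap_subtype hTi hxT ω
  obtain ⟨B, D, f, g, r, hB, hD⟩ := exists_rd hp2 hω hVp m P φ hd φx hφ hT.comap_subtype hxT ht
    htc htv
  replace hD := hD.trans (map_comap_le _ _)
  have htT : (t : G) ∈ normalizer (T : Set G) := by
    have := le_normalizer_map H.subtype (mem_map_of_mem H.subtype ht)
    rwa [subgroupOf_map_subtype, inf_eq_left.mpr hTH] at this
  have htM := hNM ⟨t.2, htT⟩
  obtain ⟨z, hz, h3⟩ := exists_eigen (Y := U ⊓ m.sub U₁.toAddSubgroup ⊓ centralizer (T : Set G))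
    (N := m.sub (P.pre ⊥)) (t := (t : G)) (w := (ω : ZMod p).val)
    (PGroup.isMulCommutative_of_le (inf_le_left.trans (inf_le_left.trans hUV)) hV)
    (mem_normalizer_inf (mem_normalizer_inf (hMU htM) (m.norm_sub fun v hv => (hφ t v hv).1))
      (Core.normalizer_le_normalizer_centralizer _ htT)) (by
      rintro _ ⟨⟨-, v, hv, rfl⟩, h3⟩
      have h4 := U₁.smul_of_tower_mem (ω : ZMod p).val hv
      have h5 : ρ t v ∈ U₁ := (hφ t v hv).1
      have h8 : π (ρ t v) = _ := (hφ t v hv).2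
      refine ⟨ρ t v + -((ω : ZMod p).val • v), ⟨U₁.add_mem h5 (U₁.neg_mem h4), ?_⟩,
        by rw [m.add, m.neg, m.nsmul, m.act]⟩
      have h6 := (hφ ⟨x, hxH⟩ v hv).2
      have h7 : π v = π v 0 • ![1, 0] := by
        rw [show (ρ.comp H.subtype) ⟨x, hxH⟩ v = v from m.fix.mpr (h3 x hxT), φx] at h6
        have := congrFun h6 0
        simp [mulVec, dotProduct, P.ne] at this
        ext i; fin_cases i <;> simp [this]
      rw [AddSubgroup.mem_bot, P.add _ h5 _ (U₁.neg_mem h4), P.neg h4, P.nsmul hv, h8,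
        cast_val, h7, mulVec_smul, htv, smul_comm, add_neg_cancel]) (fun h3 => by
      obtain ⟨v, hv, h4⟩ := h3 (x := e w) ⟨⟨hu, w, P.mem, rfl⟩, huT⟩
      have h5 := hv.2
      rw [m.inj h4, AddSubgroup.mem_bot, P.pu] at h5
      simpa using congrFun h5 0)
  exact ⟨B, D, t, f, g, r, hB, hD.trans hTM, htM, z, hz.1.1, h3⟩

omit hp [Finite G] in
theorem comap_map_le {Γ K C M : Subgroup G} [(C.subgroupOf Γ).Normal] (hK : K ≤ M) (hC : C ≤ M) :
    (((K.subgroupOf Γ).map (QuotientGroup.mk' (C.subgroupOf Γ))).comap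
      (QuotientGroup.mk' (C.subgroupOf Γ))).map Γ.subtype ≤ M := by
  rw [Core.comap_map_mk', map_le_iff_le_comap]
  exact sup_le (comap_mono hK) (comap_mono hC)

theorem en (hp2 : p ≠ 2) {ω : (ZMod p)ˣ} {n : ℕ} (hω : ω ^ n = -1) {L M A N N₀ Y : Subgroup G}
    (hA : IsPGroup p A) (hAL : A ≤ L) (hAM : A ≤ M) (hLM : ¬ L ≤ M)
    (hu : ∀ g ∈ L, g ⋆ A ≤ M → g ∈ M) (hN : IsPGroup p N) (hLN : L ≤ normalizer (N : Set G))
    (hLN₀ : L ≤ normalizer (N₀ : Set G)) (hNN : ⁅N, N⁆ ≤ N₀) (hN₀ : N₀ ≤ N) (hNM : N ≤ M)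
    (hq : ⁅⁅N, A⁆, A⁆ ≤ N₀) (hYN : Y ≤ N) (hY : IsMulCommutative Y)
    (hMY : L ⊓ M ≤ normalizer (Y : Set G))
    (hX : ∀ g ∈ L, (orderOf g).Coprime p → (∀ y ∈ Y, ⁅g, y⁆ ∈ N₀) → g ∈ M) :
    ∃ B D t f g, RD ω B D t f g ∧ B ≤ M ∧ D ≤ M ∧ t ∈ M ∧
      ∃ z ∈ Y, z ≠ 1 ∧ t * z * t⁻¹ = z ^ (ω : ZMod p).val := by
  obtain ⟨X, hXL, ⟨hAX, hXM⟩, hmin⟩ :=
    Core.exists_minimal_le (P := fun E => A ≤ E ∧ ¬ E ≤ M) ⟨hAL, hLM⟩
  have hmax : ∀ E, A ≤ E → E ≤ X → E ≠ X → E ≤ M := fun E h1 h2 h3 => by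
    by_contra h4
    exact h3 (hmin E ⟨h1, h4⟩ h2)
  have hres : (∀ g ∈ X, (orderOf g).Coprime p → g ∈ M) → X ≤ M := fun h1 => by
    obtain ⟨T, t1, t2, t3, t4⟩ := exists_sylowIn_ge hA hAX
    rw [← map_pResidual_sup_eq t2 t4]
    refine sup_le (map_subtype_pResidual_le_iff.mpr h1) (hmax T t1 t2 ?_)
    rintro rfl
    obtain ⟨g, hg, hg'⟩ := SetLike.exists_of_lt (lt_inf_normalizer_of_lt t3
      (inf_lt_left.mpr hXM))
    exact hg' ⟨hg.1, hu g (hXL hg.1) ((conj_mono g (le_inf hAX hAM)).trans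
      ((conj_eq_self_iff.mpr hg.2).le.trans inf_le_right))⟩
  obtain ⟨h, hh, hhM⟩ := SetLike.not_le_iff_exists.mp hXM
  obtain ⟨y, hy, hyM⟩ := SetLike.not_le_iff_exists.mp fun h1 => hhM (hu h (hXL hh) h1)
  obtain ⟨x', hx', hxM⟩ := SetLike.not_le_iff_exists.mp fun h1 =>
    hhM (M.inv_mem_iff.mp (hu h⁻¹ (inv_mem (hXL hh)) h1))
  obtain ⟨x, hx, rfl⟩ := hx'
  have hBX : h ⋆ A ≤ X := (conj_mono h hAX).trans (conj_eq_self_of_mem hh).le
  have h1 : A ⊔ zpowers y = X := hmin _ ⟨le_sup_left, fun h1 => hyM (h1 (mem_sup_right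
    (mem_zpowers y)))⟩ (sup_le hAX (zpowers_le.mpr (hBX hy)))
  have h2 : zpowers x ⊔ h ⋆ A = X := by
    rw [← conj_inj (g := h⁻¹), conj_eq_self_of_mem (inv_mem hh), conj_sup, inv_conj_conj]
    refine hmin _ ⟨le_sup_right, fun h1 => hxM (h1 (mem_sup_left
      (mem_map_of_mem _ (mem_zpowers x))))⟩ (sup_le ?_ hAX)
    exact (conj_mono _ (zpowers_le.mpr (hAX hx))).trans (conj_eq_self_of_mem (inv_mem hh)).le
  have hNN₀ : N ≤ normalizer (N₀ : Set G) := Coprime.le_normalizer_of_commutator_le hN₀ hNN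
  let C : Subgroup G :=
    { carrier := {c | c ∈ N ∧ ∀ g ∈ X, (orderOf g).Coprime p → ⁅g, c⁆ ∈ N₀}
      one_mem' := ⟨one_mem _, fun g _ _ => by simp⟩
      mul_mem' := fun {a b} ha hb => ⟨mul_mem ha.1 hb.1, fun g hg hc => by
        have := mul_mem (ha.2 g hg hc) (conj_mem_of (hNN₀ ha.1) (hb.2 g hg hc))
        convert this using 1
        simp only [commutatorElement_def]; group⟩
      inv_mem' := fun {a} ha => ⟨inv_mem ha.1, fun g hg hc => by
        have := conj_mem_of (hNN₀ (inv_mem ha.1)) (inv_mem (ha.2 g hg hc))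
        convert this using 1
        simp only [commutatorElement_def]; group⟩ }
  have hCN : C ≤ N := fun c hc => hc.1
  have hN₀C : N₀ ≤ C := fun c hc => ⟨hN₀ hc, fun g hg _ =>
    mul_mem (conj_mem_of (hLN₀ (hXL hg)) hc) (inv_mem hc)⟩
  have hXC : X ≤ normalizer (C : Set G) := fun k hk => mem_normalizer_of_conj_le
    (conj_le_iff.mpr fun c hc => ⟨conj_mem_of (hLN (hXL hk)) hc.1, fun g hg hg' => by
      have := conj_mem_of (hLN₀ (hXL hk)) (hc.2 (k⁻¹ * g * k⁻¹⁻¹)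
        (mul_mem (mul_mem (inv_mem hk) hg) (inv_mem (inv_mem hk))) (by
          rwa [← MulAut.conj_apply, MulEquiv.orderOf_eq]))
      convert this using 1
      simp only [commutatorElement_def]; group⟩)
  let Γ := X ⊔ N
  have hXΓ : X ≤ Γ := le_sup_left
  have hNΓ : N ≤ Γ := le_sup_right
  have : (C.subgroupOf Γ).Normal := (normal_subgroupOf_iff_le_normalizer (hCN.trans hNΓ)).mpr
    (sup_le hXC (Coprime.le_normalizer_of_commutator_le hCN (hNN.trans hN₀C)))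
  have : (N₀.subgroupOf Γ).Normal := (normal_subgroupOf_iff_le_normalizer (hN₀.trans hNΓ)).mpr
    (sup_le (hXL.trans hLN₀) hNN₀)
  have nN : (N.subgroupOf Γ).Normal := (normal_subgroupOf_iff_le_normalizer hNΓ).mpr
    (sup_le (hXL.trans hLN) le_normalizer)
  let q := QuotientGroup.mk' (C.subgroupOf Γ)
  have hs : Function.Surjective q := QuotientGroup.mk'_surjective _
  let br : Subgroup G → Subgroup (Γ ⧸ C.subgroupOf Γ) := fun K => (K.subgroupOf Γ).map q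
  have mo : ∀ {K K'}, K ≤ K' → br K ≤ br K' := fun h => map_mono (comap_mono h)
  have bc : ∀ {K K'}, K ≤ Γ → K' ≤ Γ → ⁅br K, br K'⁆ = br ⁅K, K'⁆ := fun h h' => by
    simp only [br]; rw [← map_commutator, Core.commutator_subgroupOf h h']
  have b0 : ∀ {K}, K ≤ C → br K = ⊥ := fun h => (Core.map_mk'_eq_bot_iff _ _).mpr (comap_mono h)
  have bs : ∀ {K K'}, K ≤ Γ → K' ≤ Γ → br K ⊔ br K' = br (K ⊔ K') := fun h h' => by
    simp only [br]; rw [← Subgroup.map_sup, ← subgroupOf_sup h h']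
  have bz : ∀ {g} (hg : g ∈ Γ), zpowers (q ⟨g, hg⟩) = br (zpowers g) := fun {g} hg => by
    simp only [br]; rw [← MonoidHom.map_zpowers]
    congr 1
    rw [← map_subtype_inj, MonoidHom.map_zpowers, subgroupOf_map_subtype,
      inf_eq_left.mpr (zpowers_le.mpr hg)]; rfl
  have bj : q ⟨h, hXΓ hh⟩ ⋆ br A = br (h ⋆ A) := by
    ext g
    obtain ⟨g, rfl⟩ := hs g
    constructor
    · rintro ⟨_, ⟨a, ha, rfl⟩, e⟩
      exact ⟨⟨h, hXΓ hh⟩ * a * ⟨h, hXΓ hh⟩⁻¹, conj_mem_conj (H := A).mpr ha, by simpa using e⟩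
    · rintro ⟨a, ha, e⟩
      exact mem_conj.mpr ⟨⟨h, hXΓ hh⟩⁻¹ * a * ⟨h, hXΓ hh⟩, mem_conj.mp ha, by simp [← e]⟩
  have : (br N).Normal := nN.map q hs
  obtain ⟨B, D, _, f, g, r, hB, hD, ⟨t, ht, rfl⟩, z, hz, z1, z2⟩ := en0 hp2 hω (V := br N)
    (A := br A) (X := br X) (M := br (X ⊓ M)) (U := br Y) (h := q ⟨h, hXΓ hh⟩)
    (x := q ⟨x, hXΓ (hAX hx)⟩) (y := q ⟨y, hXΓ (hBX hy)⟩)
    (le_centralizer_iff_isMulCommutative.mp (commutator_eq_bot_iff_le_centralizer.mp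
      (by rw [bc hNΓ hNΓ, b0 (hNN.trans hN₀C)])))
    (hN.comap_subtype.map q) (hA.comap_subtype.map q) (mo hAX) (mo (le_inf hAX hAM))
    (fun E e1 e2 e3 => by
      have e4 := hmax (X ⊓ (E.comap q).map Γ.subtype) (le_inf hAX fun a ha =>
        ⟨⟨a, hXΓ (hAX ha)⟩, e1 (mem_map_of_mem q ha), rfl⟩) inf_le_left fun e4 =>
          e3 (le_antisymm e2 (by
            rintro _ ⟨a, ha, rfl⟩
            obtain ⟨b, hb, e5⟩ := (e4.ge ha).2
            rwa [← Subtype.ext e5]))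
      intro k hk
      obtain ⟨a, ha, rfl⟩ := e2 hk
      exact mem_map_of_mem q (⟨ha, e4 ⟨ha, a, hk, rfl⟩⟩ : (a : G) ∈ X ⊓ M))
    (mem_map_of_mem q hh) (mem_map_of_mem q hx) (bj ▸ mem_map_of_mem q hy)
    (by rw [bz, bs (hAX.trans hXΓ) (zpowers_le.mpr (hXΓ (hBX hy))), h1])
    (by rw [bz, bj, bs (zpowers_le.mpr (hXΓ (hAX hx))) (hBX.trans hXΓ), h2])
    (by rw [bc hNΓ (hAX.trans hXΓ), bc ((commutator_mono hNΓ (hAX.trans hXΓ)).trans
      (commutator_le_self _)) (hAX.trans hXΓ), b0 (hq.trans hN₀C)])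
    (by
      rw [eq_bot_iff]
      rintro _ ⟨⟨v, hv, rfl⟩, hv'⟩
      refine mem_bot.mpr ((QuotientGroup.eq_one_iff v).mpr ⟨hv, fun k hk hk' => ?_⟩)
      have e1 : ⁅(⟨k, hXΓ hk⟩ : Γ), v⁆ ∈ C.subgroupOf Γ := by
        rw [← QuotientGroup.eq_one_iff]
        exact (map_commutatorElement q _ _).trans (commutatorElement_eq_one_iff_mul_comm.mpr
          (hv' _ (mem_map_of_mem q hk)))
      let q₀ := QuotientGroup.mk' (N₀.subgroupOf Γ)
      have e2 := Coprime.commutator_eq_one_of_commute (a := q₀ ⟨k, hXΓ hk⟩) (k := q₀ v) (by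
        rw [← commutatorElement_def, ← map_commutatorElement,
          ← commutatorElement_eq_one_iff_commute, ← map_commutatorElement]
        exact (QuotientGroup.eq_one_iff _).mpr (e1.2 k hk hk')) (by
        rw [← commutatorElement_def, ← map_commutatorElement]
        obtain ⟨j, hj⟩ := Core.isPGroup_subgroup_iff.mp hN.comap_subtype _
          (show _ ∈ N.subgroupOf Γ from e1.1)
        exact ((hk'.pow_right j).coprime_dvd_left ((orderOf_map_dvd q₀ _).trans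
          (by rw [← orderOf_coe]))).coprime_dvd_right ((orderOf_map_dvd q₀ _).trans
            (orderOf_dvd_of_pow_eq_one hj)))
      rw [← commutatorElement_eq_one_iff_mul_comm, ← map_commutatorElement] at e2
      exact (QuotientGroup.eq_one_iff (N := N₀.subgroupOf Γ) _).mp e2)
    (mo hYN) (fun e1 => hXM (hres fun k hk hk' => hX k (hXL hk) hk' fun v hv =>
      ((Core.map_mk'_eq_bot_iff _ _).mp e1 (x := ⟨v, hNΓ (hYN hv)⟩) hv).2 k hk hk'))
    (by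
      rintro _ ⟨k, hk, rfl⟩
      exact le_normalizer_map q (mem_map_of_mem q (mem_normalizer_comap (π := Γ.subtype)
        (hMY ⟨hXL hk.1, hk.2⟩))))
  have r' := (r.comap (π := q) (Q := (B ⊔ D).comap q) (r.pg.comap_of_ker_isPGroup q (by
      rw [QuotientGroup.ker_mk']; exact (hN.to_le hCN).comap_subtype))
    (by rw [map_comap_eq_self_of_surjective hs]; exact le_sup_left)
    (by rw [map_comap_eq_self_of_surjective hs]; exact le_sup_right) rfl
    (mem_normalizer_comap (mem_normalizer_sup r.tB r.tD))).map Γ.subtype_injective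
  have := hY
  obtain ⟨w, hw, w1, w2⟩ := exists_eigen_lift (π := q) (Z := Y.subgroupOf Γ) inferInstance
    (mem_normalizer_comap (hMY ⟨hXL ht.1, ht.2⟩)) hz z1 z2
  exact ⟨_, _, _, _, _, r', (map_mono (inf_le_right.trans (comap_mono hB))).trans
    (comap_map_le hNM (hCN.trans hNM)), (map_mono (inf_le_right.trans (comap_mono hD))).trans
    (comap_map_le inf_le_right (hCN.trans hNM)), ht.2, w, hw, fun e => w1 (Subtype.ext e),
    congrArg Subtype.val w2⟩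

end Cfsg.Agent.ZF
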