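import Cfsg.Agent.Lib.ZF.D
import Cfsg.Agent.Lib.PLocal.Offender
import Cfsg.Agent.Lib.PGroup.SectionRep

/-!
# Failure of `ZJ`-control of fusion, V: the two local situations
-/

set_option autoImplicit false

namespace Cfsg.Agent.ZF

open Subgroup Cfsg.Lib Cfsg.Lib.Transfer Cfsg.Lib.PLocal
open scoped commutatorElement

variable {p : ℕ} [hp : Fact p.Prime] {G : Type*} [Group G] [Finite G]

theorem syl_of_norm {D K L : Subgroup G} (hD : IsPGroup p D) (hDK : D ≤ K) (hKL : K ≤ L)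
    (hi : ¬ p ∣ D.relIndex K) (hn : L ⊓ normalizer (D : Set G) ≤ K) : ¬ p ∣ D.relIndex L :=
  not_dvd_relIndex_of_maximal (hDK.trans hKL) hD fun Q hQ h1 h2 => by
    by_contra h3
    have h4 := lt_inf_normalizer_of_lt hQ (lt_of_le_not_ge h1 h3)
    exact h4.ne (eq_of_not_dvd_relIndex_of_le hi (hQ.to_le inf_le_left)
      ((inf_le_inf_right _ h2).trans hn) h4.le)

/-- The subgroup generated by the abelian subgroups of order `d` of `P`. -/
def Js (d : ℕ) (P : Subgroup G) : Subgroup G :=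
  sSup {A | A ≤ P ∧ IsMulCommutative A ∧ Nat.card A = d}

omit hp [Finite G] in
theorem conj_comm {A : Subgroup G} (h : IsMulCommutative A) (g : G) : IsMulCommutative ↥(g ⋆ A) :=
  inferInstance

omit hp [Finite G] in
theorem conj_Js_le (d : ℕ) (g : G) (P : Subgroup G) : g ⋆ Js d P ≤ Js d (g ⋆ P) :=
  conj_le_iff_le_inv_conj.mpr (sSup_le fun A hA => conj_le_iff_le_inv_conj.mp
    (le_sSup ⟨conj_mono g hA.1, conj_comm hA.2.1 g, (card_conj g A).trans hA.2.2⟩))

omit hp [Finite G] in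
theorem conj_Js (d : ℕ) (g : G) (P : Subgroup G) : g ⋆ Js d P = Js d (g ⋆ P) :=
  le_antisymm (conj_Js_le d g P) (le_conj_iff_inv_conj_le.mpr
    ((conj_Js_le d g⁻¹ _).trans (by rw [inv_conj_conj])))

omit hp [Finite G] in
theorem norm_Js (d : ℕ) (P : Subgroup G) :
    normalizer (P : Set G) ≤ normalizer (Js d P : Set G) := fun g hg =>
  conj_eq_self_iff.mp (by rw [conj_Js, conj_eq_self_iff.mpr hg])

omit hp [Finite G] in
theorem Js_le (d : ℕ) (P : Subgroup G) : Js d P ≤ P := sSup_le fun _ h => h.1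

omit hp [Finite G] in
theorem Js_le_of {d : ℕ} {P Q : Subgroup G} (h : Js d P ≤ Q) : Js d P ≤ Js d Q :=
  sSup_le fun _ hA => le_sSup ⟨(le_sSup hA).trans h, hA.2⟩

theorem exists_sel (S : Sylow p G) {M : Subgroup G} (hSM : (S : Subgroup G) ≤ M)
    (hJ : normalizer (thompsonSubgroupOf 0 (S : Subgroup G) : Set G) ≤ M) (hM : M ≠ ⊤) :
    ∃ P T L : Subgroup G, pCore p G ≤ P ∧ P ≤ T ∧ T ≤ S ∧ T ≤ L ∧ ¬ p ∣ T.relIndex L ∧
      L ≤ normalizer (P : Set G) ∧ ¬ L ≤ M ∧ (∃ A ∈ maxIn 0 (S : Subgroup G), A ≤ T ∧ ¬ A ≤ P) ∧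
      (∀ A ∈ maxIn 0 (S : Subgroup G), A ≤ T → ¬ A ≤ P → ∀ g ∈ L, g ⋆ A ≤ M → g ∈ M) ∧
      ∀ E, T ≤ E → E ≤ L → E ≠ L → E ≤ M := by
  obtain ⟨A₀, hA₀⟩ := exists_mem_maxIn 0 (S : Subgroup G)
  set d := Nat.card A₀ with hd
  have hmx : ∀ A, A ∈ maxIn 0 (S : Subgroup G) ↔
      A ≤ S ∧ IsMulCommutative A ∧ Nat.card A = d := fun A =>
    ⟨fun h => ⟨h.1, isElementaryAbelian_zero_iff.mp h.2.1, card_eq_of_mem_maxIn h hA₀⟩,
      fun h => mem_maxIn_of_card_le hA₀ h.1 (isElementaryAbelian_zero_iff.mpr h.2.1) h.2.2.ge⟩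
  have hJS : thompsonSubgroupOf 0 (S : Subgroup G) = Js d S := by
    rw [thompsonSubgroupOf_eq_sSup, Js]; congr 1; ext A; exact hmx A
  let R := pCore p G
  let PP : Set (Subgroup G) := {P | IsPGroup p P ∧ R ≤ P ∧ P ≤ M ∧ P ≤ R ⊔ Js d P ∧
    ¬ normalizer (P : Set G) ≤ M}
  obtain ⟨P₀, hP₀, hmax⟩ := Set.exists_max_image PP (fun P => Nat.card P) (Set.toFinite _)
    ⟨R, Core.pCore_isPGroup p G, le_rfl, (Core.pCore_le_sylow S).trans hSM, le_sup_left,
      fun h => hM (eq_top_iff.mpr ((normalizer_eq_top _).ge.trans h))⟩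
  obtain ⟨T₀, t1, t2, t3, t4⟩ := exists_sylowIn_ge hP₀.1 (le_inf le_normalizer hP₀.2.2.1)
  obtain ⟨m, hm, t5⟩ := exists_conj_le_of_not_dvd_relIndex' (sylow_not_dvd_relIndex S hSM) t3
    (t2.trans inf_le_right)
  have hmM := conj_eq_self_of_mem hm
  have hP : m ⋆ P₀ ∈ PP := by
    refine ⟨isPGroup_conj hP₀.1 m, ?_, ?_, ?_, ?_⟩
    · rw [← conj_eq_self_of_normal m R]; exact conj_mono m hP₀.2.1
    · rw [← hmM]; exact conj_mono m hP₀.2.2.1
    · rw [← conj_eq_self_of_normal m R, ← conj_Js, ← conj_sup]; exact conj_mono m hP₀.2.2.2.1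
    · rw [← hmM, ← conj_normalizer, conj_le_conj_iff]; exact hP₀.2.2.2.2
  rw [← card_conj m P₀] at hmax
  replace t1 := conj_mono m t1
  replace t2 := conj_mono m t2
  replace t3 := isPGroup_conj t3 m
  rw [← relIndex_conj m] at t4
  rw [conj_inf, conj_normalizer, hmM] at t2 t4
  generalize m ⋆ P₀ = P at *
  generalize m ⋆ T₀ = T at *
  obtain ⟨hPp, hRP, hPM, hPJ, hPN⟩ := hP
  have kf : ∀ D A : Subgroup G, IsPGroup p D → P ≤ D → D ≤ M → A ≤ D → IsMulCommutative A →
      Nat.card A = d → ¬ A ≤ P → normalizer (D : Set G) ≤ M := fun D A h1 h2 h3 h4 h5 h6 h7 => by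
    have h8 : R ⊔ Js d D ≤ D := sup_le (hRP.trans h2) (Js_le d D)
    refine (Core.le_normalizer_sup le_normalizer_of_normal (norm_Js d D)).trans
      (b := normalizer ((R ⊔ Js d D : Subgroup G) : Set G)) ?_
    by_contra h9
    have h10 : P ≤ R ⊔ Js d D := hPJ.trans (sup_le_sup_left (Js_le_of ((Js_le d P).trans h2)) _)
    exact (hmax _ ⟨h1.to_le h8, le_sup_left, h8.trans h3,
      sup_le_sup_left (Js_le_of le_sup_right) _, h9⟩).not_gt (card_lt_of_lt (lt_of_le_not_ge h10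
        fun h => h7 ((show A ≤ Js d D from le_sSup ⟨h4, h5, h6⟩).trans (le_sup_right.trans h))))
  obtain ⟨A₁, a1, a2⟩ : ∃ A ∈ {A : Subgroup G | A ≤ T ∧ IsMulCommutative A ∧ Nat.card A = d},
      ¬ A ≤ P := by
    by_contra h
    push Not at h
    have h1 : Js d T = Js d P := le_antisymm (Js_le_of (sSup_le h)) (Js_le_of ((Js_le d P).trans t1))
    have h2 : normalizer (T : Set G) ≤ normalizer (P : Set G) := by
      rw [le_antisymm hPJ (sup_le hRP (Js_le d P)), ← h1]
      exact Core.le_normalizer_sup le_normalizer_of_normal (norm_Js d T)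
    have h3 : T = S := by
      by_contra h3
      have h4 := lt_inf_normalizer_of_lt S.isPGroup' (lt_of_le_of_ne t5 h3)
      exact h4.ne (eq_of_not_dvd_relIndex_of_le t4 (S.isPGroup'.to_le inf_le_left)
        (le_inf (inf_le_right.trans h2) (inf_le_left.trans hSM)) h4.le)
    exact hPN ((norm_Js d P).trans (by rwa [← h1, h3, ← hJS]))
  have t6 := syl_of_norm t3 t2 inf_le_left t4 (inf_le_inf_left _
    (kf T A₁ t3 t1 (t2.trans inf_le_right) a1.1 a1.2.1 a1.2.2 a2))
  have uq : ∀ A ∈ maxIn 0 (S : Subgroup G), A ≤ T → ¬ A ≤ P → ∀ g ∈ normalizer (P : Set G),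
      g ⋆ A ≤ M → g ∈ M := fun A hA h1 h2 g hg h3 => by
    obtain ⟨-, b1, b2⟩ := (hmx A).mp hA
    have gP := conj_eq_self_iff.mpr hg
    obtain ⟨D, d1, d2, d3, d4⟩ := exists_sylowIn_ge (t3.to_le (sup_le h1 t1))
      (H := normalizer (P : Set G) ⊓ M ⊓ g⁻¹ ⋆ M) (le_inf ((sup_le h1 t1).trans t2)
        (conj_le_iff_le_inv_conj.mp (by rw [conj_sup, gP]; exact sup_le h3 hPM)))
    have e1 := kf D A d3 (le_sup_right.trans d1) (d2.trans (inf_le_left.trans inf_le_right))
      (le_sup_left.trans d1) b1 b2 h2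
    have e0 : g ⋆ D ≤ M := conj_le_iff_le_inv_conj.mpr (d2.trans inf_le_right)
    have e2 := kf (g ⋆ D) (g ⋆ A) (isPGroup_conj d3 g) (gP ▸ conj_mono g (le_sup_right.trans d1))
      e0 (conj_mono g (le_sup_left.trans d1)) (conj_comm b1 g) ((card_conj g A).trans b2)
      (by rwa [← gP, conj_le_conj_iff])
    rw [← conj_normalizer, conj_le_iff_le_inv_conj] at e2
    have e3 := syl_of_norm d3 d2 (inf_le_left.trans inf_le_left) d4
      (le_inf (inf_le_inf_left _ e1) (inf_le_right.trans e2))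
    have e4 : D ≤ normalizer (P : Set G) ⊓ M := d2.trans inf_le_left
    have e5 : ¬ p ∣ D.relIndex (normalizer (P : Set G) ⊓ M) := fun h => e3 (h.trans
      (Dvd.intro _ (relIndex_mul_relIndex _ _ _ e4 inf_le_left)))
    obtain ⟨k, hk, e6⟩ := exists_conj_le_of_not_dvd_relIndex' e5 (isPGroup_conj d3 g)
      (le_inf ((conj_mono g (e4.trans inf_le_left)).trans (conj_eq_self_of_mem hg).le) e0)
    rw [conj_conj] at e6
    exact (M.mul_mem_cancel_left hk.2).mp (e1 (mem_normalizer_of_conj_le e6))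
  obtain ⟨L, l1, ⟨l2, l3⟩, l4⟩ := Core.exists_minimal_le (P := fun E => T ≤ E ∧ ¬ E ≤ M)
    ⟨t2.trans inf_le_left, hPN⟩
  refine ⟨P, T, L, hRP, t1, t5, l2, fun h => t6 (h.trans
    (Dvd.intro _ (relIndex_mul_relIndex _ _ _ l2 l1))), l1, l3,
    ⟨A₁, (hmx _).mpr ⟨a1.1.trans t5, a1.2⟩, a1.1, a2⟩,
    fun A hA h1 h2 g hg => uq A hA h1 h2 g (l1 hg), fun E h1 h2 h3 => ?_⟩
  by_contra h4
  exact h3 (l4 E ⟨h1, h4⟩ h2)

theorem le_core (hc : centralizer (pCore p G : Set G) ≤ pCore p G) {L Z : Subgroup G}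
    (hL : pCore p G ≤ L) (hZ : IsMulCommutative Z) (hZL : Z ≤ L)
    (h1 : (pCore p L).map L.subtype ≤ normalizer (Z : Set G))
    (h2 : L ≤ normalizer ((Z ⊓ (pCore p L).map L.subtype : Subgroup G) : Set G)) :
    Z ≤ (pCore p L).map L.subtype := by
  have h3 := Core.le_normalizer_pCoreOf p L
  have h4 := Core.pCoreOf_isPGroup p L
  have h5 := Core.pCore_le_pCoreOf hL
  refine le_trans ?_ (Core.le_pCoreOf (K := L ⊓ PGroup.commStab (Z ⊓ (pCore p L).map L.subtype)
    ((pCore p L).map L.subtype) ⊓ centralizer ((Z ⊓ (pCore p L).map L.subtype : Subgroup G) : Set G))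
    (inf_le_left.trans inf_le_left) (Core.le_normalizer_inf (Core.le_normalizer_inf le_normalizer
      (PGroup.le_normalizer_commStab h2 h3)) (Core.le_normalizer_centralizer h2)) ?_)
  all_goals generalize (pCore p L).map L.subtype = R at *
  · refine le_inf (le_inf hZL (PGroup.le_commStab (hZL.trans h2) (le_inf ?_
      (Coprime.commutator_le_of_le_normalizer (hZL.trans h3)))))
      ((le_centralizer_iff_isMulCommutative.mpr hZ).trans (centralizer_le inf_le_left))
    rw [commutator_comm]; exact Coprime.commutator_le_of_le_normalizer h1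
  · refine Core.isPGroup_subgroup_iff.mpr fun g hg => ?_
    obtain ⟨k, hk⟩ := exists_pow_coprime (p := p) g
    have h6 := zpowers_le.mpr (pow_mem hg (p ^ k))
    exact ⟨k, eq_one_of_coprime (Core.pCore_isPGroup p G) hk (mem_zpowers _) (hc (centralizer_le h5
      (Coprime.le_centralizer_of_commutator_le (PGroup.commutator_le_of_le_commStab
        (h6.trans (inf_le_left.trans inf_le_right))) (h6.trans inf_le_right)
        (Core.coprime_card_of_isPGroup (h4.to_le inf_le_right)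
          (by rwa [Nat.card_zpowers])).symm (mem_zpowers _))))⟩

omit [Finite G] in
theorem Good.map {G' : Type*} [Group G'] {ω : (ZMod p)ˣ} {S Z : Subgroup G} (h : Good ω S Z)
    {i : G →* G'} (hi : Function.Injective i) : Good ω (S.map i) (Z.map i) := by
  obtain ⟨B, D, t, f, g, r, hB, hD, ht, z, hz, z1, z2⟩ := h
  exact ⟨_, _, _, _, _, r.map hi, map_mono hB, map_mono hD,
    le_normalizer_map i (mem_map_of_mem i ht), i z, mem_map_of_mem i hz,
    fun e => z1 (hi (e.trans (map_one i).symm)), by simpa using congrArg i z2⟩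

theorem good_of_norm {ω : (ZMod p)ˣ} {S Z : Subgroup G}
    (hS : ¬ p ∣ S.relIndex (normalizer (Z : Set G)))
    (h : Good ω (normalizer (Z : Set G)) Z) : Good ω S Z := by
  obtain ⟨B, D, t, f, g, r, hB, hD, h⟩ := h
  obtain ⟨m, hm, h1⟩ := exists_conj_le_of_not_dvd_relIndex' hS r.pg (sup_le hB hD)
  obtain ⟨B', D', t', f', g', r', hB', hD', h'⟩ := Good.map (S := B ⊔ D)
    ⟨B, D, t, f, g, r, le_sup_left, le_sup_right, h⟩ (i := (MulAut.conj m).toMonoidHom)
    (MulAut.conj m).injective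
  rw [conj_eq_self_iff.mpr hm] at h'
  exact ⟨B', D', t', f', g', r', hB'.trans h1, hD'.trans h1, h'⟩

theorem good_push (hp2 : p ≠ 2) {ω : (ZMod p)ˣ} {n : ℕ} (hω : ω ^ n = -1)
    (hc : centralizer (pCore p G : Set G) ≤ pCore p G) (S : Sylow p G) {Z : Subgroup G}
    (hZ : IsMulCommutative Z) (hSZ : (S : Subgroup G) ≤ normalizer (Z : Set G))
    (hn : ¬ Z.Normal)
    (hJ : normalizer (thompsonSubgroupOf 0 (S : Subgroup G) : Set G) ≤ normalizer (Z : Set G))
    (hK : centralizer ((Z ⊓ ((S : Subgroup G) ⊓ centralizer ((S : Subgroup G) : Set G)) :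
      Subgroup G) : Set G) ≤ normalizer (Z : Set G)) : Good ω (S : Subgroup G) Z := by
  obtain ⟨P, T, L, h1, h2, h3, h4, -, h6, h7, ⟨A₀, a1, a2, a3⟩, h8, -⟩ :=
    exists_sel S hSZ hJ fun h => hn (normalizer_eq_top_iff.mp h)
  have hKV : Z ⊓ ((S : Subgroup G) ⊓ centralizer ((S : Subgroup G) : Set G)) ≤
      Z ⊓ (P ⊓ centralizer (P : Set G)) := inf_le_inf_left _ (le_inf (inf_le_right.trans
    (((centralizer_le (Core.pCore_le_sylow S)).trans hc).trans h1))
    (inf_le_right.trans (centralizer_le (h2.trans h3))))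
  have hLV : L ≤ normalizer ((P ⊓ centralizer (P : Set G) : Subgroup G) : Set G) :=
    Core.le_normalizer_inf h6 (Core.le_normalizer_centralizer h6)
  have hV := isMulCommutative_inf_centralizer P
  obtain ⟨A, b1, -, b2, b3⟩ := exists_quadratic_mem_maxIn (S.isPGroup'.to_le h3)
    (mem_maxIn_of_le a1 a2 h3) (inf_le_left.trans h2) (isElementaryAbelian_zero_iff.mpr hV)
    ((a2.trans h4).trans hLV) fun h => h7 fun g hg => h8 A₀ a1 a2 a3 g hg
      (((conj_mono g h).trans (conj_eq_self_iff.mpr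
        (Core.le_normalizer_centralizer hLV hg)).le).trans
        ((centralizer_le (hKV.trans inf_le_right)).trans hK))
  refine good_of_norm (sylow_not_dvd_relIndex S hSZ) ?_
  obtain ⟨B, D, t, f, g, r, hB, hD, ht, z, hz, h⟩ := en hp2 hω (L := L)
    (M := normalizer (Z : Set G)) (A := A) (N := P ⊓ centralizer (P : Set G)) (N₀ := ⊥)
    (Y := Z ⊓ (P ⊓ centralizer (P : Set G))) (S.isPGroup'.to_le (b1.1.trans h3)) (b1.1.trans h4)
    ((b1.1.trans h3).trans hSZ) h7 (h8 A (mem_maxIn_of_exists_le a1 a2 h3 b1) b1.1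
      fun h => b3 (h.trans (le_centralizer_iff.mp inf_le_right)))
    (S.isPGroup'.to_le (inf_le_left.trans (h2.trans h3))) hLV le_normalizer_of_normal
    (commutator_eq_bot_iff_le_centralizer.mpr (le_centralizer_iff_isMulCommutative.mpr hV)).le
    bot_le (inf_le_left.trans ((h2.trans h3).trans hSZ)) b2.le inf_le_right
    (PGroup.isMulCommutative_of_le inf_le_left hZ)
    (Core.le_normalizer_inf inf_le_right (inf_le_left.trans hLV)) fun g _ _ h =>
      hK fun y hy => (commutatorElement_eq_one_iff_mul_comm.mp (mem_bot.mp (h y (hKV hy)))).symm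
  exact ⟨B, D, t, f, g, r, hB, hD, ht, z, hz.1, h⟩

theorem good_zj (hp2 : p ≠ 2) {ω : (ZMod p)ˣ} {n : ℕ} (hω : ω ^ n = -1)
    (hc : centralizer (pCore p G : Set G) ≤ pCore p G) (S : Sylow p G)
    (hn : ¬ (centerThompsonOf 0 (S : Subgroup G)).Normal) :
    Good ω (S : Subgroup G) (centerThompsonOf 0 (S : Subgroup G)) := by
  have hJ := normalizer_thompsonSubgroupOf_le (e := 0) (S : Subgroup G)
  have hSZ := le_normalizer.trans (normalizer_le_normalizer_centerThompsonOf (e := 0)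
    (S : Subgroup G))
  have hZ := isMulCommutative_centerThompsonOf (e := 0) (S : Subgroup G)
  have hZA := fun A => centerThompsonOf_zero_le (P := (S : Subgroup G)) (A := A)
  have hZJ : centerThompsonOf 0 (S : Subgroup G) ≤
    centralizer (thompsonSubgroupOf 0 (S : Subgroup G) : Set G) := inf_le_right
  generalize centerThompsonOf 0 (S : Subgroup G) = Z at *
  obtain ⟨P, T, L, h1, h2, h3, h4, h5, h6, h7, ⟨A₀, a1, a2, a3⟩, h8, h9⟩ :=
    exists_sel S hSZ hJ fun h => hn (normalizer_eq_top_iff.mp h)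
  have hT := S.isPGroup'.to_le h3
  have hZT := (hZA _ a1).trans a2
  have sylT : ∀ B : Subgroup G, IsPGroup p B → B ≤ L → L ≤ normalizer (B : Set G) → B ≤ T :=
    fun B b1 b2 b3 => by
      obtain ⟨h, hh, e⟩ := exists_conj_le_of_not_dvd_relIndex' h5 b1 b2
      rwa [conj_eq_self_iff.mpr (b3 hh)] at e
  have hRT := sylT _ (Core.pCoreOf_isPGroup p L) (Core.pCoreOf_le p L)
    (Core.le_normalizer_pCoreOf p L)
  obtain ⟨B, b0, ⟨b1, b2⟩, b3⟩ := Core.exists_minimal_le
    (P := fun B => L ≤ normalizer (B : Set G) ∧ ¬ L ≤ normalizer ((Z ⊓ B : Subgroup G) : Set G))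
    ⟨Core.le_normalizer_pCoreOf p L, fun h => h7 (by
      rwa [inf_eq_left.mpr (le_core hc (h1.trans (h2.trans h4)) hZ (hZT.trans h4)
        ((hRT.trans h3).trans hSZ) h)] at h)⟩
  have hBT := b0.trans hRT
  have gen : ∀ E : Subgroup G, L ≤ normalizer (E : Set G) → Z ⊓ B ≤ E → B ≤ E := fun E e1 e2 =>
    inf_eq_left.mp (b3 (B ⊓ E) ⟨Core.le_normalizer_inf b1 e1, by
      rwa [← inf_assoc, inf_eq_left.mpr e2]⟩ inf_le_left)
  have hBB : ⁅B, B⁆ ≤ B := commutator_le_self B
  have c1 : L ≤ normalizer ((Z ⊓ ⁅B, B⁆ : Subgroup G) : Set G) := by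
    by_contra h
    have e := b3 _ ⟨Core.le_normalizer_commutator b1 b1, h⟩ hBB
    refine (PGroup.commutator_lt (hT.to_le hBT) (hT.to_le hBT) le_normalizer ?_).ne e
    rintro rfl
    rw [inf_bot_eq] at b2
    exact b2 le_normalizer_of_normal
  have c2 : ⁅B, B⁆ ≤ Z := (PGroup.commutator_le_of_le_commStab (gen _
    (PGroup.le_normalizer_commStab c1 b1) (PGroup.le_commStab (inf_le_left.trans
      ((hZT.trans h4).trans c1)) (le_inf (by
        rw [commutator_comm]
        exact (commutator_mono inf_le_left le_rfl).trans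
          (Coprime.commutator_le_of_le_normalizer ((hBT.trans h3).trans hSZ)))
        (commutator_mono le_rfl inf_le_right))))).trans inf_le_left
  obtain ⟨A, ⟨d1, d2⟩, d3⟩ := Set.exists_max_image {A | A ∈ maxIn 0 T ∧ ¬ A ≤ P}
    (fun A => Nat.card ↥(A ⊓ B)) (Set.toFinite _) ⟨A₀, mem_maxIn_of_le a1 a2 h3, a3⟩
  have d4 := mem_maxIn_of_exists_le a1 a2 h3 d1
  have dA := isElementaryAbelian_zero_iff.mp d1.2.1
  have d5 : B ≤ normalizer (A : Set G) := by
    by_contra h
    obtain ⟨c, rs⟩ := exists_replSetup hp2 hT d1.1 hBT (h4.trans b1) dA (c2.trans (hZA _ d4)) h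
    have e1 : repl A c ∈ maxIn 0 T := mem_maxIn_of_card_le d1 (ReplSetup.repl_le_sup.trans
      (sup_le d1.1 ((conj_mono c d1.1).trans (conj_eq_self_of_mem (hBT rs.mem)).le)))
      (isElementaryAbelian_zero_iff.mpr rs.comm_repl) rs.card_repl.ge
    have e2 : repl A c ≤ P := by
      by_contra e2
      exact (d3 _ ⟨e1, e2⟩).not_gt (card_lt_of_lt rs.inf_lt)
    have e3 := mem_maxIn_of_le e1 e2 h2
    have e4 := mem_maxIn_of_exists_le a1 a2 h3 e1
    refine h (((gen (centerThompsonOf 0 P) (h6.trans (normalizer_le_normalizer_centerThompsonOf P))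
      (inf_le_left.trans (le_inf ((hZA _ e4).trans (le_thompsonSubgroupOf e3)) (hZJ.trans
        (centralizer_le (thompsonSubgroupOf_mono_of_exists e4 e2 (h2.trans h3))))))).trans
      (centerThompsonOf_zero_le e3)).trans rs.repl_le_normalizer)
  have hMY : L ⊓ normalizer (Z : Set G) ≤ normalizer ((Z ⊓ B : Subgroup G) : Set G) :=
    Core.le_normalizer_inf inf_le_right (inf_le_left.trans b1)
  refine good_of_norm (sylow_not_dvd_relIndex S hSZ) ?_
  obtain ⟨B', D, t, f, g, r, hB, hD, ht, z, hz, h⟩ := en hp2 hω (L := L)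
    (M := normalizer (Z : Set G)) (A := A) (N := B) (N₀ := ⁅B, B⁆) (Y := Z ⊓ B)
    (hT.to_le d1.1) (d1.1.trans h4) ((d1.1.trans h3).trans hSZ) h7 (h8 A d4 d1.1 d2)
    (hT.to_le hBT) b1 (Core.le_normalizer_commutator b1 b1) le_rfl hBB
    ((hBT.trans h3).trans hSZ) (by
      refine (commutator_eq_bot_iff_le_centralizer.mpr ?_).le.trans bot_le
      rw [commutator_comm]
      exact (Coprime.commutator_le_of_le_normalizer d5).trans
        (le_centralizer_iff_isMulCommutative.mpr dA))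
    inf_le_right (PGroup.isMulCommutative_of_le inf_le_left hZ) hMY fun g hg _ h =>
      h9 (L ⊓ normalizer ((Z ⊓ B : Subgroup G) : Set G))
        (le_inf h4 ((le_inf h4 (h3.trans hSZ)).trans hMY)) inf_le_left
        (fun e => b2 (inf_eq_left.mp e)) ⟨hg, mem_normalizer_of_conj_le (conj_le_iff.mpr
          fun y hy => by
            simpa [commutatorElement_def] using mul_mem (le_inf c2 hBB (h y hy)) hy)⟩
  exact ⟨B', D, t, f, g, r, hB, hD, ht, z, hz.1, h⟩

end Cfsg.Agent.ZF
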