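import Cfsg.Agent.Lib.ZF.E

/-!
# Failure of `ZJ`-control of fusion, VI: transport lemmas and pushing up
-/

set_option autoImplicit false

namespace Cfsg.Agent.ZF

open Subgroup Cfsg.Lib Cfsg.Lib.Transfer Cfsg.Lib.PLocal
open scoped commutatorElement

variable {p : ℕ} [hp : Fact p.Prime] {G : Type*} [Group G] [Finite G] {X : Type*} [Group X]
  {ω : (ZMod p)ˣ}

omit hp [Finite G] in
theorem map_inf_comap' (f : G →* X) (H : Subgroup G) (K : Subgroup X) :
    (H ⊓ K.comap f).map f = H.map f ⊓ K := by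
  refine le_antisymm (le_inf (map_mono inf_le_left) (map_le_iff_le_comap.mpr inf_le_right)) ?_
  rintro _ ⟨⟨x, hx, rfl⟩, h⟩
  exact ⟨x, ⟨hx, h⟩, rfl⟩

theorem exists_lift {f : G →* X} (hf : Function.Surjective f) (S : Sylow p G) {K : Subgroup X}
    (hK : K ≤ (S : Subgroup G).map f) {x : X} (hx : x ∈ normalizer (K : Set X)) :
    ∃ g, f g = x ∧ g ∈ normalizer (((S : Subgroup G) ⊓ K.comap f : Subgroup G) : Set G) := by
  obtain ⟨g, rfl⟩ := hf x
  have h1 : K.comap f = f.ker ⊔ (S : Subgroup G) ⊓ K.comap f := by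
    rw [sup_comm, ← comap_map_eq, map_inf_comap', inf_eq_right.mpr hK]
  obtain ⟨n, hn, h2⟩ := frattini_argument (T := (S : Subgroup G) ⊓ K.comap f) inf_le_right
    (S.isPGroup'.to_le inf_le_left) (by
      rw [h1, ← h1]
      conv => arg 1; arg 2; arg 2; rw [h1]
      rw [Coprime.relIndex_sup_right_of_le_normalizer le_normalizer_of_normal, ← inf_relIndex_right,
        inf_assoc, inf_eq_right.mpr (ker_le_comap f K), inf_relIndex_right]
      exact sylow_not_dvd_relIndex_normal S _) le_rfl (mem_normalizer_comap hx)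
  rw [h1] at hn
  obtain ⟨s, hs, k, hk, rfl⟩ := exists_mul_of_mem_sup' le_normalizer_of_normal hn
  refine ⟨k * g, by rw [map_mul, show f k = 1 from hk, one_mul], ?_⟩
  simpa [mul_assoc] using mul_mem (inv_mem (le_normalizer hs)) h2

theorem good_pull {f : G →* X} (hf : Function.Surjective f) (S : Sylow p G) {Z : Subgroup G}
    (hZS : Z ≤ S) (hZ : IsMulCommutative Z) (h : Good ω ((S : Subgroup G).map f) (Z.map f)) :
    ∃ B D t a b, RD ω B D t a b ∧ B ≤ S ∧ D ≤ S ∧
      t ∈ normalizer (((S : Subgroup G) ⊓ (Z.map f).comap f : Subgroup G) : Set G) ∧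
      (t ∈ normalizer (Z : Set G) → ∃ z ∈ Z, z ≠ 1 ∧ t * z * t⁻¹ = z ^ (ω : ZMod p).val) := by
  obtain ⟨B, D, t, a, b, r, hB, hD, ht, z, hz, z1, z2⟩ := h
  have h1 : B ⊔ D ⊔ Z.map f ≤ (S : Subgroup G).map f := sup_le (sup_le hB hD) (map_mono hZS)
  obtain ⟨u, rfl, hu⟩ := exists_lift hf S h1
    (mem_normalizer_sup (mem_normalizer_sup r.tB r.tD) ht)
  have h2 := map_inf_comap' f S (B ⊔ D ⊔ Z.map f)
  rw [inf_eq_right.mpr h1] at h2
  refine ⟨_, _, u, _, _, r.comap (S.isPGroup'.to_le inf_le_left)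
    ((le_sup_left.trans le_sup_left).trans h2.ge) ((le_sup_right.trans le_sup_left).trans h2.ge)
    rfl hu,
    inf_le_left.trans inf_le_left, inf_le_left.trans inf_le_left, ?_,
    fun h => exists_eigen_lift hZ h hz z1 z2⟩
  have := mem_normalizer_inf hu (mem_normalizer_comap ht)
  rwa [inf_assoc, inf_eq_right.mpr (comap_mono le_sup_right)] at this

omit hp in
theorem agree_norm {S S₁ Z K : Subgroup G} (hS : S₁ ≤ S) (hK : S₁ ≤ normalizer (K : Set G))
    (hc : Controls (normalizer (Z : Set G)) (S ⊓ normalizer (K : Set G)) (normalizer (K : Set G)))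
    {A : Subgroup G} (hA : A ≤ S₁) {t : G} (ht : t ∈ normalizer (K : Set G))
    (htA : t ∈ normalizer (A : Set G)) : t ∈ normalizer ((Z ⊓ A : Subgroup G) : Set G) ∧
      ∃ h ∈ normalizer (Z : Set G), ∀ a ∈ A, h * a * h⁻¹ = t * a * t⁻¹ := by
  have h1 := hA.trans (le_inf hS hK)
  obtain ⟨h, hh, e⟩ := hc A h1 t ht ((conj_eq_self_iff.mpr htA).le.trans h1)
  exact ⟨norm_of_agree (mem_normalizer_inf hh (norm_of_agree htA e))
    fun a ha => (e a ha.2).symm, h, hh, e⟩

theorem good_up {S S₁ Z K : Subgroup G} (hS : S₁ ≤ S) (hZK : Z ⊓ S₁ ≤ K) (hKS : K ≤ S₁)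
    (hK : S₁ ≤ normalizer (K : Set G))
    (hc : Controls (normalizer (Z : Set G)) (S ⊓ normalizer (K : Set G)) (normalizer (K : Set G)))
    {B D : Subgroup G} {t : G} {a b : G → ZMod p} (r : RD ω B D t a b) (hB : B ≤ S₁) (hD : D ≤ S₁)
    (ht : t ∈ normalizer (K : Set G))
    (he : t ∈ normalizer ((Z ⊓ S₁ : Subgroup G) : Set G) →
      ∃ z ∈ Z ⊓ S₁, z ≠ 1 ∧ t * z * t⁻¹ = z ^ (ω : ZMod p).val) : Good ω S Z := by
  obtain ⟨-, h, hh, e⟩ := agree_norm hS hK hc (sup_le (sup_le hB hD) hKS) ht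
    (mem_normalizer_sup (mem_normalizer_sup r.tB r.tD) ht)
  have h1 := (agree_norm hS hK hc hKS ht ht).1
  rw [le_antisymm (inf_le_inf_left Z hKS) (le_inf inf_le_left hZK)] at h1
  obtain ⟨z, hz, z1, z2⟩ := he h1
  exact ⟨B, D, h, a, b, r.congr (fun x hx => e x (mem_sup_left (mem_sup_left hx)))
    fun x hx => e x (mem_sup_left (mem_sup_right hx)), hB.trans hS, hD.trans hS, hh, z, hz.1, z1,
    (e z (mem_sup_right (hZK hz))).trans z2⟩

theorem con_quot (hc : centralizer (pCore p G : Set G) ≤ pCore p G) {T : Subgroup G} [T.Normal]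
    (hT : IsPGroup p T) (h : ∀ g : G, (orderOf g).Coprime p → g ∈ centralizer (T : Set G)) :
    centralizer (pCore p (G ⧸ T) : Set (G ⧸ T)) ≤ pCore p (G ⧸ T) := by
  refine Core.le_pCore inferInstance (Core.isPGroup_subgroup_iff.mpr fun x hx => ?_)
  obtain ⟨g, rfl⟩ := QuotientGroup.mk'_surjective T x
  obtain ⟨k, hk⟩ := exists_pow_coprime (p := p) g
  refine ⟨k, ?_⟩
  rw [← map_pow, eq_one_of_coprime (Core.pCore_isPGroup p G) hk (mem_zpowers _) (hc
    (Coprime.le_centralizer_of_commutator_le (N := T) ?_ (zpowers_le.mpr (h _ hk))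
      (Core.coprime_card_of_isPGroup hT (by rwa [Nat.card_zpowers])).symm (mem_zpowers _))),
    map_one]
  rw [Core.commutator_le_iff_map_mk', Core.map_pCore_mk' T hT, commutator_comm,
    commutator_eq_bot_iff_le_centralizer, MonoidHom.map_zpowers, zpowers_le, map_pow]
  exact pow_mem hx _

omit hp in
theorem char_pull (b : G →* X) (α : G ≃* G) (hα : ∀ x, b x = 1 → b (α x) = 1) {W : Subgroup X}
    (hW : (W.subgroupOf b.range).Characteristic) {x : G} (hx : b x ∈ W) : b (α x) ∈ W := by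
  have : Finite b.range := Finite.of_surjective _ b.rangeRestrict_surjective
  let β : b.range →* b.range := b.rangeRestrict.liftOfSurjective b.rangeRestrict_surjective
    ⟨b.rangeRestrict.comp α.toMonoidHom, fun x hx => Subtype.ext (hα x (congrArg Subtype.val hx))⟩
  have hβ : ∀ x, β (b.rangeRestrict x) = b.rangeRestrict (α x) := fun x =>
    MonoidHom.liftOfRightInverse_comp_apply _ _ _ _ x
  have hs : Function.Surjective β := fun y => by
    obtain ⟨x, rfl⟩ := b.rangeRestrict_surjective y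
    exact ⟨b.rangeRestrict (α.symm x), by rw [hβ, MulEquiv.apply_symm_apply]⟩
  have := characteristic_iff_le_comap.mp hW
    (MulEquiv.ofBijective β ⟨Finite.injective_iff_surjective.mpr hs, hs⟩)
    (x := b.rangeRestrict x) hx
  rw [mem_comap] at this
  exact (congrArg (· ∈ W.subgroupOf b.range) (hβ x)).mp this

theorem push (hp2 : p ≠ 2) {n : ℕ} (hω : ω ^ n = -1) {S Z T : Subgroup G}
    (hZ : IsMulCommutative Z) (hSZ : S ≤ normalizer (Z : Set G)) [T.Normal]
    (hT : ∀ g : G, (orderOf g).Coprime p → g ∈ centralizer (T : Set G))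
    {L : Type*} [Group L] [Finite L] [Finite X] {i : L →* G} {f : L →* X}
    (hi : Function.Injective i) (hf : Function.Surjective f) (hk : (Nat.card f.ker).Coprime p)
    (hc : centralizer (pCore p X : Set X) ≤ pCore p X) (P : Sylow p L)
    (hPS : (P : Subgroup L).map i ≤ S) (hTP : T ≤ (P : Subgroup L).map i)
    (hZT : ¬ Z ⊓ (P : Subgroup L).map i ≤ T)
    (big : ∀ K, T < K → K ≤ (P : Subgroup L).map i →
      S ⊓ normalizer (((P : Subgroup L).map i : Subgroup G) : Set G) ≤ normalizer (K : Set G) →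
      Controls (normalizer (Z : Set G)) (S ⊓ normalizer (K : Set G)) (normalizer (K : Set G)))
    (hn : ¬ (((Z ⊓ (P : Subgroup L).map i).comap i).map f).Normal) : Good ω S Z := by
  have hTL : T.comap i ≤ P := (comap_mono hTP).trans (comap_map_eq_self_of_injective hi _).le
  have : ((T.comap i).map f).Normal := Normal.map inferInstance f hf
  have hTX := (P.isPGroup'.to_le hTL).map f
  have hc' := con_quot hc hTX fun x hx => by
    obtain ⟨g, rfl⟩ := hf x
    obtain ⟨k, hk⟩ := exists_pow_coprime (p := p) g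
    refine mem_of_pow_mem_of_coprime (n := p ^ k) ?_ (hx.pow_right k)
    rintro _ ⟨y, hy, rfl⟩
    rw [← map_pow, ← map_mul, ← map_mul]
    congr 1
    apply hi
    rw [map_mul, map_mul]
    exact hT _ (by rwa [orderOf_injective i hi]) _ hy
  let Y := X ⧸ (T.comap i).map f
  let q : L →* Y := (QuotientGroup.mk' ((T.comap i).map f)).comp f
  have hq : Function.Surjective q := (QuotientGroup.mk'_surjective _).comp hf
  have kq : (P : Subgroup L) ⊓ q.ker = T.comap i := by
    rw [← MonoidHom.comap_ker, QuotientGroup.ker_mk', comap_map_eq, inf_comm,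
      Core.sup_inf_of_le_normalizer hTL le_normalizer_of_normal, inf_comm,
      Core.inf_eq_bot_of_isPGroup_of_coprime P.isPGroup' hk, sup_bot_eq]
  set S₁ := (P : Subgroup L).map i with hS₁
  set Z' := (Z ⊓ S₁).comap i with hZ'
  have hZP : Z' ≤ P := (comap_mono inf_le_right).trans (comap_map_eq_self_of_injective hi _).le
  have hZm : Z'.map i = Z ⊓ S₁ :=
    map_comap_eq_self (inf_le_right.trans (map_le_range i _))
  have hPZ : (P : Subgroup L) ≤ normalizer (Z' : Set L) := fun g hg => mem_normalizer_comap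
    (mem_normalizer_inf (hSZ (hPS (mem_map_of_mem i hg))) (le_normalizer (mem_map_of_mem i hg)))
  have hZ'c : IsMulCommutative Z' := by
    have := PGroup.isMulCommutative_of_le (inf_le_left : Z ⊓ S₁ ≤ Z) hZ
    exact Subgroup.comap_injective_isMulCommutative _ hi
  let pl : Subgroup Y → Subgroup G := fun W =>
    ((P : Subgroup L) ⊓ W.comap q).map i
  have pl1 : ∀ W, pl W ≤ S₁ := fun W => map_mono inf_le_left
  have pl2 : ∀ W, T ≤ pl W := fun W => by
    rw [← map_comap_eq_self (hTP.trans (map_le_range i _)), ← kq]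
    exact map_mono (inf_le_inf_left _ (ker_le_comap q W))
  have pl3 : ∀ W, W ≤ (P : Subgroup L).map q → W ≠ ⊥ → T < pl W := fun W h1 h2 =>
    lt_of_le_not_ge (pl2 W) fun h3 => h2 (by
      rw [eq_bot_iff]
      intro w hw
      obtain ⟨x, hx, rfl⟩ := h1 hw
      exact (kq.ge (h3 (mem_map_of_mem i (⟨hx, hw⟩ : x ∈ (P : Subgroup L) ⊓ W.comap q)))).2)
  have plZ : pl (Z'.map q) = Z ⊓ S₁ ⊔ T := by
    simp only [pl]
    rw [comap_map_eq, inf_comm, Core.sup_inf_of_le_normalizer hZP le_normalizer_of_normal,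
      inf_comm, kq, Subgroup.map_sup, hZm, map_comap_eq_self (hTP.trans (map_le_range i _))]
  have nZ : S ⊓ normalizer (S₁ : Set G) ≤ normalizer (pl (Z'.map q) : Set G) := plZ ▸
    Core.le_normalizer_sup (Core.le_normalizer_inf (inf_le_left.trans hSZ) inf_le_right)
      le_normalizer_of_normal
  have nC : ∀ W, (W.subgroupOf ((P : Subgroup L).map q)).Characteristic →
      S ⊓ normalizer (S₁ : Set G) ≤ normalizer (pl W : Set G) := fun W hW g hg => by
    refine mem_normalizer_of_conj_le (conj_le_iff.mpr ?_)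
    rintro _ ⟨x, hx, rfl⟩
    let e := (P : Subgroup L).equivMapOfInjective i hi
    let α := (e.trans (normalizerMonoidHom S₁ ⟨g, hg.2⟩)).trans e.symm
    have hα : ∀ y : (P : Subgroup L), i (α y) = g * i y * g⁻¹ := fun y =>
      congrArg Subtype.val (e.apply_symm_apply (normalizerMonoidHom S₁ ⟨g, hg.2⟩ (e y)))
    have := char_pull (q.comp (P : Subgroup L).subtype) α (fun y hy => (kq.ge (x := α y) (by
      rw [mem_comap, hα]
      exact Normal.conj_mem inferInstance (i y) (kq.le (x := y) ⟨y.2, hy⟩) g)).2) (W := W)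
      (by rwa [MonoidHom.range_comp, range_subtype]) (x := ⟨x, hx.1⟩) hx.2
    exact ⟨_, ⟨(α ⟨x, hx.1⟩).2, this⟩, hα _⟩
  have hSS : S₁ ≤ S ⊓ normalizer (S₁ : Set G) := le_inf hPS le_normalizer
  have act : ∀ K R : Subgroup Y, K ≤ R → R ≤ (P : Subgroup L).map q → K ≠ ⊥ →
      S ⊓ normalizer (S₁ : Set G) ≤ normalizer (pl K : Set G) → ∀ x ∈ normalizer (K : Set Y),
      x ∈ normalizer (R : Set Y) → ∃ g, q g = x ∧
        g ∈ normalizer ((Z' ⊓ R.comap q : Subgroup L) : Set L) := fun K R h1 h2 h3 h4 x x1 x2 => by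
    obtain ⟨g, rfl, hg⟩ := exists_lift hq P h2 x2
    have g1 := mem_normalizer_inf hg (mem_normalizer_comap x1)
    rw [inf_assoc, inf_eq_right.mpr (comap_mono h1)] at g1
    have g2 := mem_normalizer_comap (π := i) (agree_norm hPS (hSS.trans h4)
      (big _ (pl3 K (h1.trans h2) h3) (pl1 K) h4) (pl1 R)
      (le_normalizer_map i (mem_map_of_mem i g1)) (le_normalizer_map i (mem_map_of_mem i hg))).1
    refine ⟨g, rfl, ?_⟩
    convert g2 using 3
    simp only [hZ', pl, hS₁, comap_inf, comap_map_eq_self_of_injective hi, inf_assoc]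
  let P' := P.mapSurjective hq
  have hPZ' : (P' : Subgroup Y) ≤ normalizer (Z'.map q : Set Y) :=
    (map_mono hPZ).trans (le_normalizer_map q)
  have lg : ∀ K : Subgroup Y, K ≤ (P : Subgroup L).map q → K ≠ ⊥ → (P' : Subgroup Y) ≤ normalizer (K : Set Y) →
      S ⊓ normalizer (S₁ : Set G) ≤ normalizer (pl K : Set G) →
      normalizer (K : Set Y) ≤ normalizer (Z'.map q : Set Y) := fun K h1 h2 h3 h4 => by
    have h5 := Core.pCoreOf_le_sylow P' h3
    have h6 : normalizer (K : Set Y) ≤ normalizer ((Z'.map q ⊓ (pCore p (normalizer (K : Set Y))).map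
        (normalizer (K : Set Y)).subtype : Subgroup Y) : Set Y) := fun x hx => by
      obtain ⟨g, rfl, hg⟩ := act K _ (Core.le_pCoreOf_normalizer (P'.isPGroup'.to_le h1)) h5 h2 h4
        x hx (Core.le_normalizer_pCoreOf p _ hx)
      rw [← map_inf_comap']
      exact le_normalizer_map q (mem_map_of_mem q hg)
    rwa [inf_eq_left.mpr (le_core hc' ((Core.pCore_le_sylow P').trans h3) inferInstance
      ((map_mono hZP).trans h3) (h5.trans hPZ') h6)] at h6
  have hZ0 : Z'.map q ≠ ⊥ := fun h => hZT (by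
    rw [← hZm, map_le_iff_le_comap, ← kq]
    exact le_inf hZP ((Subgroup.map_eq_bot_iff _).mp h))
  have hP0 : (P' : Subgroup Y) ≠ ⊥ := fun h => hZ0 (le_bot_iff.mp (h ▸ map_mono hZP))
  have gd := good_push hp2 hω hc' P' (Z := Z'.map q) inferInstance hPZ' (fun h => hn
    (Core.normal_of_top_le_normalizer fun x _ => by
      obtain ⟨g, h1, hg⟩ := act _ _ le_rfl (map_mono hZP) hZ0 nZ (QuotientGroup.mk' _ x)
        (le_normalizer_of_normal (mem_top _)) (le_normalizer_of_normal (mem_top _))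
      rw [inf_eq_left.mpr (le_comap_map q Z')] at hg
      have h2 := (map_mono (hTL.trans hPZ)).trans (le_normalizer_map f) (QuotientGroup.eq.mp h1)
      simpa using mul_mem (le_normalizer_map f (mem_map_of_mem f hg)) h2))
    (lg _ (thompsonSubgroupOf_le _) (thompsonSubgroupOf_ne_bot (Or.inl rfl) P'.isPGroup' hP0)
      (le_normalizer.trans (normalizer_le_normalizer_thompsonSubgroupOf _)) (nC _ (by
        change (Subgroup.subgroupOf _ (P' : Subgroup Y)).Characteristic
        rw [thompsonSubgroupOf, Core.subgroupOf_map_subtype_self]; infer_instance)))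
    ((centralizer_le_normalizer _).trans (lg _ (inf_le_right.trans inf_le_left) (by
        rw [← inf_assoc, inf_eq_left.mpr (show Z'.map q ≤ P' from map_mono hZP)]
        exact PGroup.inf_centralizer_ne_bot (P'.isPGroup'.to_le (map_mono hZP)) P'.isPGroup' hPZ'
          hZ0)
      (Core.le_normalizer_inf hPZ' (Core.le_normalizer_inf le_normalizer
        (Core.le_normalizer_centralizer le_normalizer))) (by
        have e : ∀ W W', pl (W ⊓ W') = pl W ⊓ pl W' := fun W W' => by
          simp only [pl]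
          rw [← map_inf_eq _ _ _ hi, comap_inf, inf_inf_distrib_left]
        rw [e]
        refine Core.le_normalizer_inf nZ (nC _ ?_)
        change (Subgroup.subgroupOf _ (P' : Subgroup Y)).Characteristic
        rw [← Core.map_subtype_center, Core.subgroupOf_map_subtype_self]; infer_instance)))
  obtain ⟨B, D, t, a, b, r, hB, hD, ht, he⟩ := good_pull hq P hZP hZ'c gd
  refine good_up hPS (plZ ▸ le_sup_left) (pl1 _) (hSS.trans nZ)
    (big _ (pl3 _ (map_mono hZP) hZ0) (pl1 _) nZ) (r.map hi) (map_mono hB) (map_mono hD)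
    (le_normalizer_map i (mem_map_of_mem i ht)) fun h => ?_
  obtain ⟨z, hz, z1, z2⟩ := he (mem_normalizer_comap h)
  exact ⟨i z, hz, fun e => z1 (hi (e.trans (map_one i).symm)), by simpa using congrArg i z2⟩

end Cfsg.Agent.ZF
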